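import Cfsg.Agent.H378.Eng.Expo
import Mathlib
import Cfsg.Agent.H129.TorusChar
import Cfsg.Agent.H378.UnipCent
import Cfsg.Agent.H720.RowsNeg_m3
import Cfsg.Agent.H129.TorusUntw
import Cfsg.Agent.H129.TwE6Idx
import Cfsg.Agent.H378.SmallTor_m3
import Cfsg.Agent.Lib.FinFast
import Cfsg.Agent.Lib.DivFast
import Cfsg.Agent.FastGrp
import Cfsg.Agent.Prune
set_option linter.all false

section
prune_inst 0x7fbdedf8bfb8b3ffdfff7e7ffed9ddfc19919fffa4dff943ffe8e3ff1b9f032309ed73ad0de490fe8e57c23410a87843fb7eefffe86bdc7ffffdfff41ffbee5ff5f7350011948c300f340ff603f057086a3ffffeefffffffffffffffffffffffffbfffffffff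

-- part: H482/TwoCyc/Untw
section
prune_inst 0x30000000000000000000000000000000000000408000000002000200000000000000000000100000000000000000000000000000000000000000000000000000000000000000000000000000000000000000000000000000000000000000000000000
set_option linter.all false
open scoped Cfsg.Agent.FastGrp

-- part: H482/TwoCyc/NilP
section
/-!
# Class two groups of odd exponent (helper482)

* `two_pow` : a group generated by elements of order dividing the odd number `p`, of class two, has exponent `p`;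
* `odd_mem` : `x ∈ ⟨X a : a ∈ S⟩`, `S'` containing the sums of three elements of `S` : `x ^ p ∈ ⟨X a : a ∈ S'⟩`.
-/

set_option autoImplicit false
set_option linter.unusedSectionVars false

namespace Cfsg.Agent.H482.TwoCyc

open scoped commutatorElement
open Cfsg.Agent.H378.NilExp

universe u

section Grp

variable {G : Type u} [Group G]

/-- class two, odd exponent -/
theorem two_pow {p : ℕ} (hodd : Odd p) {s : Set G} (hs : Subgroup.closure s = ⊤) {Z : Subgroup G}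
    (hZ : ∀ z ∈ Z, ∀ x ∈ s, z * x = x * z)
    (hc : ∀ x ∈ s, ∀ y ∈ s, ⁅x, y⁆ ∈ Z) (h3 : ∀ x ∈ s, x ^ p = 1) (x : G) : x ^ p = 1 := by
  have hcen : ∀ z ∈ Z, ∀ x : G, z * x = x * z := by
    intro z hz x
    have hx : x ∈ Subgroup.closure s := by rw [hs]; exact Subgroup.mem_top x
    induction hx using Subgroup.closure_induction with
    | mem x hx => exact hZ z hz x hx
    | one => rw [one_mul, mul_one]
    | mul a b _ _ ha hb => rw [← mul_assoc, ha, mul_assoc, hb, mul_assoc]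
    | inv a _ ha => exact ((show Commute z a from ha).inv_right).eq
  -- the elements of `Z` of order dividing `p`
  let K : Subgroup G :=
    { carrier := {z | z ∈ Z ∧ z ^ p = 1}
      one_mem' := ⟨one_mem _, one_pow p⟩
      mul_mem' := fun {a b} ha hb => ⟨mul_mem ha.1 hb.1, by
        rw [(show Commute a b from hcen a ha.1 b).mul_pow, ha.2, hb.2, one_mul]⟩
      inv_mem' := fun {a} ha => ⟨inv_mem ha.1, by rw [inv_pow, ha.2, inv_one]⟩ }
  have hpw : ∀ (x y c : G), (∀ g, c * g = g * c) → x * y = c * (y * x) → ∀ n : ℕ, x ^ n * y = c ^ n * (y * x ^ n) := by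
    intro x y c hcc e n
    induction n with
    | zero => rw [pow_zero, pow_zero, one_mul, one_mul, mul_one]
    | succ n ih =>
      have hcn : x ^ n * c = c * x ^ n := (hcc _).symm
      calc x ^ (n + 1) * y = x ^ n * (x * y) := by rw [pow_succ, mul_assoc]
        _ = (x ^ n * c) * (y * x) := by rw [e, mul_assoc]
        _ = c * (x ^ n * y) * x := by rw [hcn]; simp only [mul_assoc]
        _ = c ^ (n + 1) * (y * x ^ (n + 1)) := by rw [ih, pow_succ' c, pow_succ x]; simp only [mul_assoc]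
  have hK : ∀ x ∈ s, ∀ y ∈ s, ⁅x, y⁆ ∈ K := by
    intro x hx y hy
    refine ⟨hc x hx y hy, ?_⟩
    set c := ⁅x, y⁆ with hcd
    have hcc : ∀ g, c * g = g * c := hcen c (hc x hx y hy)
    have e : x * y = c * (y * x) := by rw [hcd, commutatorElement_def]; group
    have h1 := hpw x y c hcc e p
    rw [h3 x hx, one_mul, mul_one] at h1
    exact mul_eq_right.1 h1.symm
  -- all commutators are in `K`
  have hK1 : ∀ y ∈ s, ∀ x : G, ⁅x, y⁆ ∈ K := by
    intro y hy x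
    have hx : x ∈ Subgroup.closure s := by rw [hs]; exact Subgroup.mem_top x
    induction hx using Subgroup.closure_induction with
    | mem x hx => exact hK x hx y hy
    | one => rw [commutatorElement_one_left]; exact one_mem _
    | mul a b _ _ ha hb =>
      have e : ⁅a * b, y⁆ = ⁅b, y⁆ * ⁅a, y⁆ := by
        have h1 : ⁅a * b, y⁆ = a * ⁅b, y⁆ * a⁻¹ * ⁅a, y⁆ := by
          rw [commutatorElement_def, commutatorElement_def, commutatorElement_def]; group
        rw [h1, ← hcen _ hb.1 a, mul_inv_cancel_right]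
      rw [e]
      exact mul_mem hb ha
    | inv a _ ha =>
      have e : ⁅a⁻¹, y⁆ = ⁅a, y⁆⁻¹ := by
        have h1 : ⁅a⁻¹, y⁆ = a⁻¹ * ⁅a, y⁆⁻¹ * a := by
          rw [commutatorElement_def, commutatorElement_def]; group
        rw [h1, ← hcen _ (inv_mem ha.1) a⁻¹, mul_assoc, inv_mul_cancel, mul_one]
      rw [e]
      exact inv_mem ha
  have hK2 : ∀ x y : G, ⁅x, y⁆ ∈ K := by
    intro x y
    have hy : y ∈ Subgroup.closure s := by rw [hs]; exact Subgroup.mem_top y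
    induction hy using Subgroup.closure_induction with
    | mem y hy => exact hK1 y hy x
    | one => rw [commutatorElement_one_right]; exact one_mem _
    | mul a b _ _ ha hb =>
      have e : ⁅x, a * b⁆ = ⁅x, a⁆ * ⁅x, b⁆ := by
        have h1 : ⁅x, a * b⁆ = ⁅x, a⁆ * (a * ⁅x, b⁆ * a⁻¹) := by
          rw [commutatorElement_def, commutatorElement_def, commutatorElement_def]; group
        rw [h1, ← hcen _ hb.1 a, mul_inv_cancel_right]
      rw [e]
      exact mul_mem ha hb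
    | inv a _ ha =>
      have e : ⁅x, a⁻¹⁆ = ⁅x, a⁆⁻¹ := by
        have h1 : ⁅x, a⁻¹⁆ = a⁻¹ * ⁅x, a⁆⁻¹ * a := by
          rw [commutatorElement_def, commutatorElement_def]; group
        rw [h1, ← hcen _ (inv_mem ha.1) a⁻¹, mul_assoc, inv_mul_cancel, mul_one]
      rw [e]
      exact inv_mem ha
  have hx : x ∈ Subgroup.closure s := by rw [hs]; exact Subgroup.mem_top x
  induction hx using Subgroup.closure_induction with
  | mem x hx => exact h3 x hx
  | one => exact one_pow p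
  | mul a b _ _ ha hb =>
    obtain ⟨hd, hd3⟩ := hK2 b a
    set d := ⁅b, a⁆ with hdd
    have hdc : ∀ g, d * g = g * d := hcen d hd
    have e : b * a = d * (a * b) := by rw [hdd, commutatorElement_def]; group
    have key : ∀ n : ℕ, (a * b) ^ n = d ^ (∑ i ∈ Finset.range n, i) * (a ^ n * b ^ n) := by
      intro n
      induction n with
      | zero => simp
      | succ n ih =>
        have h1 := hpw b a d hdc e n
        have h2 : ∀ (j : ℕ) (g : G), g * d ^ j = d ^ j * g := fun j g =>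
          ((show Commute d g from hdc g).pow_left j).eq.symm
        rw [pow_succ, ih, Finset.sum_range_succ]
        calc d ^ (∑ i ∈ Finset.range n, i) * (a ^ n * b ^ n) * (a * b) =
            d ^ (∑ i ∈ Finset.range n, i) * (a ^ n * (b ^ n * a) * b) := by simp only [mul_assoc]
          _ = d ^ (∑ i ∈ Finset.range n, i) * ((a ^ n * d ^ n) * (a * b ^ n) * b) := by
              rw [h1]; simp only [mul_assoc]
          _ = d ^ (∑ i ∈ Finset.range n, i) * d ^ n * (a ^ (n + 1) * b ^ (n + 1)) := by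
              rw [h2, pow_succ a, pow_succ b]; simp only [mul_assoc]
          _ = _ := by rw [pow_add d]
    have hsum : p ∣ ∑ i ∈ Finset.range p, i := by
      have h1 := Finset.sum_range_id_mul_two p
      obtain ⟨m, hm⟩ := hodd
      refine ⟨m, ?_⟩
      have h2 : p - 1 = 2 * m := by omega
      rw [h2] at h1
      have h3 : p * (2 * m) = (p * m) * 2 := by ring
      rw [h3] at h1
      exact Nat.eq_of_mul_eq_mul_right (by norm_num) h1
    obtain ⟨c, hcs⟩ := hsum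
    rw [key, hcs, pow_mul, hd3, one_pow, one_mul, ha, hb, one_mul]
  | inv a _ ha => rw [inv_pow, ha, inv_one]

theorem odd_mem_of_gen {p : ℕ} (hodd : Odd p) {s : Set G} {N Z : Subgroup G}
    (hN : Subgroup.closure s ≤ Subgroup.normalizer (N : Set G))
    (hZs : ∀ z ∈ Z, ∀ x ∈ s, ⁅z, x⁆ ∈ N) (hc : ∀ x ∈ s, ∀ y ∈ s, ⁅x, y⁆ ∈ Z) (h3 : ∀ x ∈ s, x ^ p ∈ N) {x : G}
    (hx : x ∈ Subgroup.closure s) : x ^ p ∈ N := by
  obtain ⟨Q, _, π, h1, h2⟩ := exists_quot hN
  have h3 := two_pow hodd h2 (Z := (Z.subgroupOf (Subgroup.closure s)).map π) (by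
    rintro _ ⟨z, hz, rfl⟩ _ ⟨x, hx, rfl⟩
    rw [← commutatorElement_eq_one_iff_mul_comm, ← map_commutatorElement, h1]
    exact hZs _ hz _ hx) (by
    rintro _ ⟨x, hx, rfl⟩ _ ⟨y, hy, rfl⟩
    rw [← map_commutatorElement]
    exact ⟨⁅x, y⁆, hc _ hx _ hy, rfl⟩) (by
    rintro _ ⟨x, hx, rfl⟩
    rw [← map_pow, h1]
    exact h3 _ hx) (π ⟨x, hx⟩)
  rw [← map_pow, h1] at h3
  exact h3

end Grp

open Cfsg.Agent.Nodes Cfsg.Agent.Nodes.BNOf

section Sup

variable {I Y : Type*} [Fintype I] [DecidableEq I] [Group Y] {X : (I → ℤ) → Subgroup Y} {S S₁ S' : Set (I → ℤ)}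

theorem odd_mem {p : ℕ} (hodd : Odd p) (hSS₁ : S₁ ⊆ S) (hSS : S' ⊆ S₁)
    (hc : ∀ a ∈ S, ∀ b ∈ S, ∀ x ∈ X a, ∀ y ∈ X b, ⁅x, y⁆ ∈ RGD.Sup X S₁)
    (hc' : ∀ a ∈ S₁, ∀ b ∈ S, ∀ x ∈ X a, ∀ y ∈ X b, ⁅x, y⁆ ∈ RGD.Sup X S')
    (hp : ∀ a ∈ S, ∀ x ∈ X a, x ^ p = 1) {x : Y} (hx : x ∈ RGD.Sup X S) : x ^ p ∈ RGD.Sup X S' := by
  have hN := le_normalizer_of (S := S) (S' := S') fun a ha b hb x hx y hy => by
    have h1 := hc' b (hSS hb) a ha y hy x hx
    rw [← commutatorElement_inv]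
    exact inv_mem h1
  have hN₁ := le_trans (RGD.Sup_mono (X := X) hSS₁) hN
  have hcc : ∀ z ∈ RGD.Sup X S₁, ∀ b ∈ S, ∀ x ∈ X b, ⁅z, x⁆ ∈ RGD.Sup X S' := fun z hz b hb x hx =>
    comm_Sup hN₁ (fun a ha y hy => hc' a ha b hb y hy x hx) hz
  rw [Sup_eq_closure X S] at hx hN
  refine odd_mem_of_gen hodd (Z := RGD.Sup X S₁) hN ?_ ?_ ?_ hx
  · rintro z hz x ⟨b, hb, hx⟩
    exact hcc z hz b hb x hx
  · rintro x ⟨a, ha, hx⟩ y ⟨b, hb, hy⟩
    exact hc a ha b hb x hx y hy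
  · rintro x ⟨a, ha, hx⟩
    rw [hp a ha x hx]
    exact one_mem _

end Sup

end Cfsg.Agent.H482.TwoCyc
end

-- part: H482/TwoCyc/Gram
section
/-!
# The index of a lattice in its saturation (helper482)

* `det_le_pow` : a positive semidefinite real matrix with diagonal `N` has determinant at most `N ^ d`;
* `exists_mult` : `v : Fin d → ℤ^l` independent, of the same length `N` with respect to a positive definite integral form,
  `z j ∈ ℤ^l` in the rational span of `v`: the multiples `n z j`, `n ^ 2 ≤ N ^ d`, are integral combinations.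
-/

set_option autoImplicit false

namespace Cfsg.Agent.H482.TwoCyc.Gram

open Matrix

theorem det_le_pow {d : ℕ} {G : Matrix (Fin d) (Fin d) ℝ} (hG : G.PosSemidef) {N : ℝ} (hN : ∀ i, G i i = N) :
    G.det ≤ N ^ d := by
  rcases Nat.eq_zero_or_pos d with rfl | hd
  · simp
  have hH := hG.1
  have h1 : G.det = ∏ i, hH.eigenvalues i := by
    have := hH.det_eq_prod_eigenvalues
    simpa only [_root_.Real.ringHom_apply] using this
  have h2 : ∑ i, hH.eigenvalues i = d * N := by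
    have := hH.trace_eq_sum_eigenvalues
    rw [Matrix.trace] at this
    simp only [Matrix.diag_apply, hN, Finset.sum_const, Finset.card_univ, Fintype.card_fin, nsmul_eq_mul] at this
    rw [this]
    simp only [_root_.Real.ringHom_apply]
  have h3 : ∀ i, 0 ≤ hH.eigenvalues i := hG.eigenvalues_nonneg
  have hd' : (0 : ℝ) < d := by exact_mod_cast hd
  have h5 := Real.geom_mean_le_arith_mean_weighted Finset.univ (fun _ : Fin d => (1 : ℝ) / d) hH.eigenvalues
    (fun _ _ => by positivity) (by simp only [_root_.one_div, _root_.Finset.sum_const, _root_.Finset.card_univ, _root_.Fintype.card_fin, _root_.nsmul_eq_mul]; field_simp) (fun i _ => h3 i)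
  rw [← Finset.mul_sum, h2] at h5
  have h6 : (1 : ℝ) / d * (d * N) = N := by field_simp
  rw [h6] at h5
  have h7 : ∏ i, hH.eigenvalues i = (∏ i, hH.eigenvalues i ^ ((1 : ℝ) / d)) ^ d := by
    rw [← Finset.prod_pow]
    refine Finset.prod_congr rfl fun i _ => ?_
    rw [← Real.rpow_natCast, ← Real.rpow_mul (h3 i)]
    rw [one_div, inv_mul_cancel₀ hd'.ne', Real.rpow_one]
  rw [h1, h7]
  exact pow_le_pow_left₀ (Finset.prod_nonneg fun i _ => Real.rpow_nonneg (h3 i) _) h5 d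

theorem lcm_sq_dvd {a b D : ℕ} (ha : a ^ 2 ∣ D) (hb : b ^ 2 ∣ D) : (Nat.lcm a b) ^ 2 ∣ D := by
  rcases Nat.eq_zero_or_pos D with rfl | hD
  · exact dvd_zero _
  have ha0 : a ≠ 0 := by rintro rfl; simp at ha; omega
  have hb0 : b ≠ 0 := by rintro rfl; simp at hb; omega
  rw [← Nat.factorization_le_iff_dvd (pow_ne_zero _ (Nat.lcm_ne_zero ha0 hb0)) hD.ne']
  rw [← Nat.factorization_le_iff_dvd (pow_ne_zero _ ha0) hD.ne'] at ha
  rw [← Nat.factorization_le_iff_dvd (pow_ne_zero _ hb0) hD.ne'] at hb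
  intro p
  have h1 := ha p
  have h2 := hb p
  rw [Nat.factorization_pow] at h1 h2 ⊢
  rw [Nat.factorization_lcm ha0 hb0]
  simp only [Finsupp.smul_apply, Finsupp.sup_apply, smul_eq_mul] at *
  rcases le_total (a.factorization p) (b.factorization p) with h | h
  · rw [sup_of_le_right h]; exact h2
  · rw [sup_of_le_left h]; exact h1

theorem lcm_finset_sq_dvd {ι : Type*} [DecidableEq ι] (s : Finset ι) (f : ι → ℕ) {D : ℕ} (h : ∀ i ∈ s, f i ^ 2 ∣ D) :
    (s.lcm f) ^ 2 ∣ D := by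
  induction s using Finset.induction_on with
  | empty => simp
  | insert a s _ ih =>
    rw [Finset.lcm_insert]
    exact lcm_sq_dvd (h a (Finset.mem_insert_self _ _)) (ih fun i hi => h i (Finset.mem_insert_of_mem hi))

/-- **The index bound.** -/
theorem exists_mult' {l d : ℕ} (A : Matrix (Fin l) (Fin l) ℤ) (hA : A.IsSymm)
    (hpos : ∀ x : Fin l → ℝ, x ≠ 0 → 0 < x ⬝ᵥ (A.map (Int.cast : ℤ → ℝ)) *ᵥ x) (v : Fin d → Fin l → ℤ)
    (hv : LinearIndependent ℚ (fun i => (fun j => (v i j : ℚ)))) {N : ℕ} (hN : ∀ i, v i ⬝ᵥ A *ᵥ v i = N) :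
    ∃ D : ℕ, 0 < D ∧ D ≤ N ^ d ∧ ∀ (z : Fin l → ℤ) (c : Fin d → ℚ), (∀ j, (z j : ℚ) = ∑ i, c i * v i j) →
    ∃ n : ℕ, 0 < n ∧ n ^ 2 ∣ D ∧ ∃ m : Fin d → ℤ, ∀ j, (n : ℤ) * z j = ∑ i, m i * v i j := by
  set Vm : Matrix (Fin d) (Fin l) ℤ := Matrix.of v with hVm
  set G : Matrix (Fin d) (Fin d) ℤ := Vm * A * Vmᵀ with hG
  have hGR : (G.map (Int.cast : ℤ → ℝ)) = (Vm.map (Int.cast : ℤ → ℝ)) * (A.map (Int.cast : ℤ → ℝ)) *
      (Vm.map (Int.cast : ℤ → ℝ))ᵀ := by
    have h1 : ∀ {a b : ℕ} (M : Matrix (Fin a) (Fin b) ℤ), M.map (Int.cast : ℤ → ℝ) = M.map (Int.castRingHom ℝ) :=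
      fun M => rfl
    rw [h1, h1, h1, hG, Matrix.map_mul, Matrix.map_mul, Matrix.transpose_map]
  have hsym : Gᵀ = G := by
    rw [hG, Matrix.transpose_mul, Matrix.transpose_mul, Matrix.transpose_transpose, hA.eq, Matrix.mul_assoc]
  have hpd : (G.map (Int.cast : ℤ → ℝ)).PosSemidef := by
    rw [Matrix.posSemidef_iff_dotProduct_mulVec]
    constructor
    · rw [Matrix.IsHermitian, Matrix.conjTranspose_eq_transpose_of_trivial, ← Matrix.transpose_map, hsym]
    · intro x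
      rw [hGR]
      have e : star x = x := by simp
      rw [e, ← Matrix.mulVec_mulVec, ← Matrix.mulVec_mulVec, Matrix.dotProduct_mulVec]
      rw [Matrix.mulVec_transpose]
      by_cases h1 : x ᵥ* (Vm.map (Int.cast : ℤ → ℝ)) = 0
      · rw [h1]; simp only [_root_.Matrix.mulVec_zero, _root_.dotProduct_zero, _root_.Std.le_refl]
      · exact (hpos _ h1).le
  set D : ℤ := G.det with hD
  have hDR : (D : ℝ) = (G.map (Int.cast : ℤ → ℝ)).det := by
    rw [hD]
    exact (Int.castRingHom ℝ).map_det G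
  have hD0 : D ≠ 0 := by
    intro h0
    have h1 : (G.map (Int.castRingHom ℚ)).det = 0 := by
      have := (Int.castRingHom ℚ).map_det G
      rw [← RingHom.mapMatrix_apply, ← this, ← hD, h0, map_zero]
    obtain ⟨x, hx, hx0⟩ := Matrix.exists_mulVec_eq_zero_iff.2 h1
    obtain ⟨y, hy⟩ : ∃ y, y = x ᵥ* (Vm.map (Int.castRingHom ℚ)) := ⟨_, rfl⟩
    have hy0 : y ≠ 0 := by
      intro h0
      apply hx
      rw [Fintype.linearIndependent_iff] at hv
      funext i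
      refine hv x ?_ i
      funext j
      have h2 := congrFun (hy.symm.trans h0) j
      rw [Matrix.vecMul, dotProduct] at h2
      simpa only [Finset.sum_apply, Vm, _root_.Pi.smul_apply, _root_.smul_eq_mul, _root_.Pi.zero_apply, _root_.Int.coe_castRingHom, _root_.Matrix.map_apply, _root_.Matrix.of_apply] using h2
    have h2 : y ⬝ᵥ (A.map (Int.castRingHom ℚ)) *ᵥ y = 0 := by
      have h3 : x ⬝ᵥ (G.map (Int.castRingHom ℚ)) *ᵥ x = 0 := by rw [hx0]; simp only [_root_.dotProduct_zero]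
      rw [hG, Matrix.map_mul, Matrix.map_mul, Matrix.transpose_map, ← Matrix.mulVec_mulVec, ← Matrix.mulVec_mulVec,
        Matrix.dotProduct_mulVec, Matrix.mulVec_transpose, ← hy] at h3
      exact h3
    have h4 := hpos (fun j => (y j : ℝ)) (fun h => hy0 (funext fun j => by
      have h6 : (y j : ℝ) = 0 := congrFun h j
      rw [Pi.zero_apply]
      exact_mod_cast h6))
    have h5 : ((y ⬝ᵥ (A.map (Int.castRingHom ℚ)) *ᵥ y : ℚ) : ℝ) =
        (fun j => (y j : ℝ)) ⬝ᵥ (A.map (Int.cast : ℤ → ℝ)) *ᵥ (fun j => (y j : ℝ)) := by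
      simp only [dotProduct, Matrix.mulVec, Matrix.map_apply, Rat.cast_sum, Rat.cast_mul, eq_intCast, Rat.cast_intCast]
    rw [← h5, h2, Rat.cast_zero] at h4
    exact lt_irrefl _ h4
  have hDpos : 0 < D := by
    have := hpd.det_nonneg
    rw [← hDR] at this
    have h1 : 0 ≤ D := by exact_mod_cast this
    omega
  have hGG : ∀ (V : Matrix (Fin d) (Fin l) ℤ) (i j : Fin d), (V * A * Vᵀ) i j = V i ⬝ᵥ A *ᵥ V j := by
    intro V i j
    rw [Matrix.mul_assoc]
    simp only [Matrix.mul_apply, dotProduct, Matrix.mulVec, Matrix.transpose_apply]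
  have hDle : D ≤ (N : ℤ) ^ d := by
    have h1 := det_le_pow hpd (N := N) (fun i => by
      rw [Matrix.map_apply, hG, hGG]
      have h2 : Vm i ⬝ᵥ A *ᵥ Vm i = N := hN i
      rw [h2]
      norm_num)
    rw [← hDR] at h1
    exact_mod_cast h1
  obtain ⟨D', hD'⟩ : ∃ D' : ℕ, D = D' := ⟨D.toNat, (Int.toNat_of_nonneg hDpos.le).symm⟩
  refine ⟨D', by
    have : (0 : ℤ) < D' := by rw [← hD']; exact hDpos
    exact_mod_cast this, by
    rw [hD'] at hDle
    exact_mod_cast hDle, ?_⟩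
  intro z c hz
  have hsq : ∀ i, (c i).den ^ 2 ∣ D' := by
    intro i
    -- the matrix with the `i`-th row replaced by `z`
    set Vi : Matrix (Fin d) (Fin l) ℤ := Vm.updateRow i z with hVi
    set E : Matrix (Fin d) (Fin d) ℚ := (1 : Matrix (Fin d) (Fin d) ℚ).updateRow i c with hE
    have hdE : E.det = c i := by
      rw [hE, ← Matrix.det_transpose, ← Matrix.updateCol_transpose, Matrix.transpose_one]
      have := congrFun (congrFun (congrArg DFunLike.coe (Matrix.cramer_one (n := Fin d) (α := ℚ))) c) i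
      rw [Matrix.cramer_apply] at this
      simpa only [_root_.Module.End.one_apply] using this
    have hEV : E * Vm.map (Int.cast : ℤ → ℚ) = Vi.map (Int.cast : ℤ → ℚ) := by
      ext a b
      rw [Matrix.mul_apply, Matrix.map_apply]
      by_cases ha : a = i
      · subst ha
        rw [hE, hVi]
        simp only [Matrix.updateRow_self]
        rw [hz b]
        rfl
      · rw [hE, hVi]
        simp only [Matrix.updateRow_ne ha]
        rw [Finset.sum_eq_single a]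
        · rw [Matrix.one_apply_eq, one_mul, Matrix.map_apply]
        · intro x _ hx
          rw [Matrix.one_apply_ne (Ne.symm hx), zero_mul]
        · intro h; exact absurd (Finset.mem_univ a) h
    have h1 : ∀ {a b : ℕ} (M : Matrix (Fin a) (Fin b) ℤ), M.map (Int.cast : ℤ → ℚ) = M.map (Int.castRingHom ℚ) :=
      fun M => rfl
    have h2 : ((Vi * A * Viᵀ).det : ℚ) = c i * D * c i := by
      have h3 : (((Vi * A * Viᵀ).det : ℤ) : ℚ) = ((Vi * A * Viᵀ).map (Int.castRingHom ℚ)).det :=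
        (Int.castRingHom ℚ).map_det _
      have h4 : ((D : ℤ) : ℚ) = (G.map (Int.castRingHom ℚ)).det := (Int.castRingHom ℚ).map_det _
      have h5 : (Vi * A * Viᵀ).map (Int.castRingHom ℚ) = E * G.map (Int.castRingHom ℚ) * Eᵀ := by
        rw [Matrix.map_mul, Matrix.map_mul, Matrix.transpose_map, ← h1 Vi, ← hEV, hG, Matrix.map_mul,
          Matrix.map_mul, Matrix.transpose_map, Matrix.transpose_mul, ← h1 Vm]
        simp only [Matrix.mul_assoc]
      rw [h3, h4, h5, Matrix.det_mul, Matrix.det_mul, Matrix.det_transpose, hdE]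
    have h3 : (c i).den ^ 2 ∣ ((c i).num ^ 2).natAbs * D' := by
      have h4 : ((c i).num ^ 2 * D' : ℤ) = (Vi * A * Viᵀ).det * ((c i).den : ℤ) ^ 2 := by
        have h5 : ((c i).num : ℚ) = c i * (c i).den := (Rat.mul_den_eq_num (c i)).symm
        have h6 : (((c i).num ^ 2 * D' : ℤ) : ℚ) = (((Vi * A * Viᵀ).det * ((c i).den : ℤ) ^ 2 : ℤ) : ℚ) := by
          rw [Int.cast_mul, Int.cast_mul, Int.cast_pow, Int.cast_pow, Int.cast_natCast, Int.cast_natCast, h2, h5,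
            hD', Int.cast_natCast]
          ring
        exact_mod_cast h6
      have h5 : (((c i).den ^ 2 : ℕ) : ℤ) ∣ (((c i).num ^ 2).natAbs * D' : ℤ) := by
        rw [Int.natAbs_of_nonneg (sq_nonneg _), h4]
        push_cast
        exact Dvd.intro_left _ rfl
      exact_mod_cast h5
    refine Nat.Coprime.dvd_of_dvd_mul_left ?_ h3
    rw [Int.natAbs_pow]
    exact Nat.Coprime.pow 2 2 (c i).reduced.symm
  refine ⟨Finset.univ.lcm fun i => (c i).den, ?_, ?_, ?_⟩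
  · rw [Nat.pos_iff_ne_zero]
    intro h0
    rw [Finset.lcm_eq_zero_iff] at h0
    obtain ⟨i, -, hi⟩ := h0
    exact (c i).den_nz hi
  · exact lcm_finset_sq_dvd Finset.univ (fun i => (c i).den) fun i _ => hsq i
  · have h1 : ∀ i, ∃ m : ℤ, ((Finset.univ.lcm fun i => (c i).den : ℕ) : ℚ) * c i = m := by
      intro i
      obtain ⟨b, hb⟩ := Finset.dvd_lcm (s := Finset.univ) (f := fun i => (c i).den) (Finset.mem_univ i)
      refine ⟨b * (c i).num, ?_⟩
      rw [hb]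
      push_cast
      rw [← Rat.mul_den_eq_num (c i)]
      ring
    choose m hm using h1
    refine ⟨m, fun j => ?_⟩
    have h2 : (((Finset.univ.lcm fun i => (c i).den : ℕ) : ℤ) : ℚ) * (z j : ℚ) = ∑ i, (m i : ℚ) * (v i j : ℚ) := by
      rw [hz j, Finset.mul_sum]
      refine Finset.sum_congr rfl fun i _ => ?_
      rw [← hm i]
      push_cast
      ring
    exact_mod_cast h2

/-- the uniform version -/
theorem exists_mult {l d : ℕ} (A : Matrix (Fin l) (Fin l) ℤ) (hA : A.IsSymm)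
    (hpos : ∀ x : Fin l → ℝ, x ≠ 0 → 0 < x ⬝ᵥ (A.map (Int.cast : ℤ → ℝ)) *ᵥ x) (v : Fin d → Fin l → ℤ)
    (hv : LinearIndependent ℚ (fun i => (fun j => (v i j : ℚ)))) {N : ℕ} (hN : ∀ i, v i ⬝ᵥ A *ᵥ v i = N)
    {ι : Type*} [Fintype ι] (z : ι → Fin l → ℤ) (hz : ∀ a, ∃ c : Fin d → ℚ, ∀ j, (z a j : ℚ) = ∑ i, c i * v i j) :
    ∃ n : ℕ, 0 < n ∧ n ^ 2 ≤ N ^ d ∧ ∀ a, ∃ m : Fin d → ℤ, ∀ j, (n : ℤ) * z a j = ∑ i, m i * v i j := by
  classical
  obtain ⟨D, hD, hDN, h⟩ := exists_mult' A hA hpos v hv hN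
  choose c hc using hz
  choose n hn hnD m hm using fun a => h (z a) (c a) (hc a)
  refine ⟨Finset.univ.lcm n, ?_, ?_, fun a => ?_⟩
  · rw [Nat.pos_iff_ne_zero]
    intro h0
    rw [Finset.lcm_eq_zero_iff] at h0
    obtain ⟨i, -, hi⟩ := h0
    exact (hn i).ne' hi
  · exact (Nat.le_of_dvd hD (lcm_finset_sq_dvd Finset.univ n fun i _ => hnD i)).trans hDN
  · obtain ⟨b, hb⟩ := Finset.dvd_lcm (s := Finset.univ) (f := n) (Finset.mem_univ a)
    refine ⟨fun i => b * m a i, fun j => ?_⟩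
    rw [hb]
    push_cast
    rw [mul_comm (n a : ℤ), mul_assoc, hm a j, Finset.mul_sum]
    exact Finset.sum_congr rfl fun i _ => by ring

end Cfsg.Agent.H482.TwoCyc.Gram
end

-- part: H482/TwoCyc/Poly
section
/-!
# Polynomials of endomorphisms of finite order (helper482)

* `exists_poly` : `R ^ N = 1`, `U` stable under `R`: a product of distinct cyclotomic polynomials of total degree at most
  `dim V - dim U` maps `V` into `U`;
* `eval_le` : the value at `q` is at most `(q + 1) ^ deg`.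
-/

set_option autoImplicit false

namespace Cfsg.Agent.H482.TwoCyc.Poly

open Polynomial

theorem exists_poly {V : Type*} [AddCommGroup V] [Module ℚ V] [FiniteDimensional ℚ V] (R : Module.End ℚ V) {N : ℕ}
    (hN : 0 < N) (hR : R ^ N = 1) (U : Submodule ℚ V) (hU : ∀ x ∈ U, R x ∈ U) :
    ∃ S : Finset ℕ, (∀ n ∈ S, 0 < n) ∧ ∑ n ∈ S, Nat.totient n + Module.finrank ℚ U ≤ Module.finrank ℚ V ∧
      ∀ v, aeval R (∏ n ∈ S, cyclotomic n ℚ) v ∈ U := by
  classical
  have hU' : U ≤ U.comap R := fun x hx => hU x hx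
  let Rq : Module.End ℚ (V ⧸ U) := U.mapQ U R hU'
  have hmk : ∀ (p : ℚ[X]) (v : V), aeval Rq p (Submodule.Quotient.mk v) = Submodule.Quotient.mk (aeval R p v) := by
    intro p
    induction p using Polynomial.induction_on' with
    | add p q hp hq =>
      intro v
      rw [map_add, map_add, LinearMap.add_apply, LinearMap.add_apply, hp, hq, Submodule.Quotient.mk_add]
    | monomial n a =>
      intro v
      have h1 : ∀ v, (Rq ^ n) (Submodule.Quotient.mk v) = Submodule.Quotient.mk ((R ^ n) v) := by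
        induction n with
        | zero => intro v; rfl
        | succ n ih =>
          intro v
          rw [pow_succ, pow_succ, Module.End.mul_apply, Module.End.mul_apply]
          have : Rq (Submodule.Quotient.mk v) = Submodule.Quotient.mk (R v) := rfl
          rw [this, ih]
      rw [← C_mul_X_pow_eq_monomial, map_mul, map_mul, aeval_C, aeval_C, map_pow, map_pow, aeval_X, aeval_X,
        Module.End.mul_apply, Module.End.mul_apply, h1, Module.algebraMap_end_apply, Module.algebraMap_end_apply,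
        Submodule.Quotient.mk_smul]
  have hdvd : minpoly ℚ Rq ∣ X ^ N - 1 := by
    apply minpoly.dvd
    apply LinearMap.ext
    intro x
    obtain ⟨v, rfl⟩ := Submodule.Quotient.mk_surjective U x
    rw [hmk, map_sub, map_pow, aeval_X, map_one, hR, sub_self, LinearMap.zero_apply, LinearMap.zero_apply,
      Submodule.Quotient.mk_zero]
  have hμ0 : minpoly ℚ Rq ≠ 0 := fun h0 => by
    rw [h0, zero_dvd_iff] at hdvd
    exact (X_pow_sub_C_ne_zero hN (1 : ℚ)) (by rw [map_one]; exact hdvd)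
  set S : Finset ℕ := N.divisors.filter fun n => cyclotomic n ℚ ∣ minpoly ℚ Rq with hS
  have hpos : ∀ n ∈ N.divisors, 0 < n := fun n hn => Nat.pos_of_mem_divisors hn
  have hcop : ∀ n ∈ N.divisors, ∀ m ∈ N.divisors, n ≠ m → IsCoprime (cyclotomic n ℚ) (cyclotomic m ℚ) :=
    fun n _ m _ h => cyclotomic.isCoprime_rat h
  have h1 : ∏ n ∈ S, cyclotomic n ℚ ∣ minpoly ℚ Rq := by
    apply Finset.prod_dvd_of_coprime
    · intro n hn m hm h
      exact hcop n (Finset.mem_filter.1 hn).1 m (Finset.mem_filter.1 hm).1 h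
    · intro n hn
      exact (Finset.mem_filter.1 hn).2
  have h2 : minpoly ℚ Rq ∣ ∏ n ∈ S, cyclotomic n ℚ := by
    have h3 : minpoly ℚ Rq ∣ (∏ n ∈ S, cyclotomic n ℚ) *
        ∏ n ∈ N.divisors.filter (fun n => ¬ cyclotomic n ℚ ∣ minpoly ℚ Rq), cyclotomic n ℚ := by
      rw [hS, Finset.prod_filter_mul_prod_filter_not, prod_cyclotomic_eq_X_pow_sub_one hN]
      exact hdvd
    refine IsCoprime.dvd_of_dvd_mul_right ?_ h3
    apply IsCoprime.prod_right
    intro n hn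
    obtain ⟨hn1, hn2⟩ := Finset.mem_filter.1 hn
    rw [isCoprime_comm]
    exact ((cyclotomic.irreducible_rat (hpos n hn1)).coprime_iff_not_dvd).2 hn2
  refine ⟨S, fun n hn => hpos n (Finset.mem_filter.1 hn).1, ?_, ?_⟩
  · have h3 : (∏ n ∈ S, cyclotomic n ℚ).natDegree = ∑ n ∈ S, Nat.totient n := by
      rw [natDegree_prod _ _ fun n _ => cyclotomic_ne_zero n ℚ]
      exact Finset.sum_congr rfl fun n _ => natDegree_cyclotomic n ℚ
    have h4 := natDegree_le_of_dvd h1 hμ0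
    have h5 : (minpoly ℚ Rq).natDegree ≤ Module.finrank ℚ (V ⧸ U) := by
      rw [← LinearMap.charpoly_natDegree Rq]
      exact natDegree_le_of_dvd (LinearMap.minpoly_dvd_charpoly Rq) (LinearMap.charpoly_monic Rq).ne_zero
    have h6 := Submodule.finrank_quotient_add_finrank U
    omega
  · intro v
    rw [← Submodule.Quotient.mk_eq_zero, ← hmk]
    obtain ⟨c, hc⟩ := h2
    rw [hc, map_mul, minpoly.aeval, zero_mul, LinearMap.zero_apply]

theorem eval_pos (q : ℕ) (hq : 2 ≤ q) (S : Finset ℕ) : 0 < (∏ n ∈ S, cyclotomic n ℤ).eval (q : ℤ) := by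
  rw [eval_prod]
  apply Finset.prod_pos
  intro n _
  exact cyclotomic_pos' n (by exact_mod_cast hq)

theorem eval_le (q : ℕ) (hq : 2 ≤ q) (S : Finset ℕ) :
    (∏ n ∈ S, cyclotomic n ℤ).eval (q : ℤ) ≤ ((q : ℤ) + 1) ^ ∑ n ∈ S, Nat.totient n := by
  have key : ∀ n, (cyclotomic n ℤ).eval (q : ℤ) ≤ ((q : ℤ) + 1) ^ Nat.totient n := by
    intro n
    have h1 := cyclotomic_eval_le_add_one_pow_totient (q := (q : ℝ)) (by exact_mod_cast hq) n
    rw [← map_cyclotomic_int n ℝ, ← Int.cast_natCast (R := ℝ) q, eval_intCast_map] at h1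
    have h2 : (((cyclotomic n ℤ).eval (q : ℤ) : ℤ) : ℝ) ≤ ((((q : ℤ) + 1) ^ Nat.totient n : ℤ) : ℝ) := by
      push_cast
      simpa using h1
    exact_mod_cast h2
  rw [eval_prod, ← Finset.prod_pow_eq_pow_sum]
  exact Finset.prod_le_prod (fun n _ => (cyclotomic_pos' n (by exact_mod_cast hq)).le) fun n _ => key n

end Cfsg.Agent.H482.TwoCyc.Poly
end

-- part: H482/TwoCyc/Lat
section
/-!
# Characters of a lattice with `χ ∘ R = χ ^ q` (helper482)

* `chi_poly` : `χ (P(R) x) = χ(x) ^ P(q)`;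
* `semi` : `χ ^ N = 1` with `N = ∏ Φ_n(q)`, a product of distinct cyclotomic polynomials of total degree at most `l`;
* `levi` : if `χ a = 1`: `χ ^ (n N) = 1`, total degree at most `l - d`, `n ^ 2 ≤ |a| ^ (2 d)`, `1 ≤ d`.
-/

set_option autoImplicit false

namespace Cfsg.Agent.H482.TwoCyc.Lat

open Polynomial Cfsg.Agent.H129.TorusChar Matrix

variable {l : ℕ}

/-- the rational vector -/
def cst (x : Fin l → ℤ) : Fin l → ℚ := fun j => (x j : ℚ)

theorem cst_add (x y : Fin l → ℤ) : cst (x + y) = cst x + cst y := by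
  funext j; simp [cst]

theorem cst_smul (n : ℤ) (x : Fin l → ℤ) : cst (n • x) = (n : ℚ) • cst x := by
  funext j; simp [cst]

theorem cst_inj {x y : Fin l → ℤ} (h : cst x = cst y) : x = y := by
  funext j
  have := congrFun h j
  simpa [cst] using this

/-- the rational extension -/
noncomputable def RQ (R : Module.End ℤ (Fin l → ℤ)) : Module.End ℚ (Fin l → ℚ) :=
  Matrix.toLin' ((LinearMap.toMatrix' R).map (Int.castRingHom ℚ))

theorem RQ_cst (R : Module.End ℤ (Fin l → ℤ)) (x : Fin l → ℤ) : RQ R (cst x) = cst (R x) := by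
  have h1 : R x = (LinearMap.toMatrix' R) *ᵥ x := (LinearMap.toMatrix'_mulVec R x).symm
  rw [RQ, Matrix.toLin'_apply, h1]
  funext j
  simp only [Matrix.mulVec, dotProduct, cst, Matrix.map_apply, eq_intCast, Int.cast_sum, Int.cast_mul]

theorem pow_cst (R : Module.End ℤ (Fin l → ℤ)) (n : ℕ) (x : Fin l → ℤ) :
    (RQ R ^ n) (cst x) = cst ((R ^ n) x) := by
  induction n generalizing x with
  | zero => rfl
  | succ n ih => rw [pow_succ, pow_succ, Module.End.mul_apply, Module.End.mul_apply, RQ_cst, ih]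

theorem aeval_cst (R : Module.End ℤ (Fin l → ℤ)) (P : ℤ[X]) (x : Fin l → ℤ) :
    aeval (RQ R) (P.map (Int.castRingHom ℚ)) (cst x) = cst (aeval R P x) := by
  induction P using Polynomial.induction_on' with
  | add p q hp hq =>
    rw [Polynomial.map_add, map_add, map_add, LinearMap.add_apply, LinearMap.add_apply, hp, hq, cst_add]
  | monomial n a =>
    rw [← C_mul_X_pow_eq_monomial, Polynomial.map_mul, Polynomial.map_C, Polynomial.map_pow, Polynomial.map_X,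
      map_mul, map_mul, aeval_C, aeval_C, map_pow, map_pow, aeval_X, aeval_X, Module.End.mul_apply,
      Module.End.mul_apply, pow_cst, Module.algebraMap_end_apply, Module.algebraMap_end_apply, cst_smul]
    rfl

theorem RQ_pow {R : Module.End ℤ (Fin l → ℤ)} {M : ℕ} (h : R ^ M = 1) : RQ R ^ M = 1 := by
  refine (Pi.basisFun ℚ (Fin l)).ext fun i => ?_
  have h1 : (Pi.basisFun ℚ (Fin l)) i = cst (Pi.single i 1) := by
    funext j
    rw [Pi.basisFun_apply, cst]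
    by_cases hj : j = i
    · subst hj; simp
    · simp [Pi.single_eq_of_ne hj]
  rw [h1, pow_cst, h]
  rfl

section Chi

variable {k : Type*} [Field k] {χ : (Fin l → ℤ) → k} (hχ : IsMC χ) {q : ℕ} {R : Module.End ℤ (Fin l → ℤ)}
  (hR : ∀ x, χ (R x) = χ x ^ q)

include hχ hR

theorem chi_poly (P : ℤ[X]) (x : Fin l → ℤ) : χ (aeval R P x) = χ x ^ (P.eval (q : ℤ)) := by
  have h0 := hχ.ne_zero x
  induction P using Polynomial.induction_on' with
  | add p q hp hq =>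
    rw [map_add, LinearMap.add_apply, hχ.add, hp, hq, eval_add, zpow_add₀ h0]
  | monomial n a =>
    have h1 : ∀ (n : ℕ) (x : Fin l → ℤ), χ ((R ^ n) x) = χ x ^ q ^ n := by
      intro n
      induction n with
      | zero => intro x; rw [pow_zero, pow_zero, pow_one]; rfl
      | succ n ih => intro x; rw [pow_succ, Module.End.mul_apply, ih, hR, ← pow_mul, pow_succ, mul_comm]
    rw [← C_mul_X_pow_eq_monomial, map_mul, aeval_C, map_pow, aeval_X, Module.End.mul_apply,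
      Module.algebraMap_end_apply, hχ.zsmul, h1, eval_mul, eval_C, eval_pow, eval_X, mul_comm a, _root_.zpow_mul]
    congr 1
    rw [← Nat.cast_pow, zpow_natCast]

/-- **Semisimple elements.** -/
theorem semi {M : ℕ} (hM : 0 < M) (hRM : R ^ M = 1) :
    ∃ S : Finset ℕ, (∀ n ∈ S, 0 < n) ∧ ∑ n ∈ S, Nat.totient n ≤ l ∧
      ∀ x, χ x ^ ((∏ n ∈ S, cyclotomic n ℤ).eval (q : ℤ)) = 1 := by
  obtain ⟨S, hS, h1, h2⟩ := Poly.exists_poly (RQ R) hM (RQ_pow hRM) ⊥ (fun x hx => by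
    rw [Submodule.mem_bot] at hx ⊢
    rw [hx, map_zero])
  rw [finrank_bot, add_zero, Module.finrank_fin_fun] at h1
  refine ⟨S, hS, h1, fun x => ?_⟩
  rw [← chi_poly hχ hR]
  have h3 := h2 (cst x)
  rw [Submodule.mem_bot] at h3
  have h4 : (∏ n ∈ S, cyclotomic n ℚ) = (∏ n ∈ S, cyclotomic n ℤ).map (Int.castRingHom ℚ) := by
    rw [Polynomial.map_prod]
    exact Finset.prod_congr rfl fun n _ => (map_cyclotomic n _).symm
  rw [h4, aeval_cst] at h3
  have h5 : aeval R (∏ n ∈ S, cyclotomic n ℤ) x = 0 := cst_inj (by rw [h3]; funext j; simp [cst])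
  rw [h5, hχ.zero]

/-- **Elements killing a vector.** -/
theorem levi {M : ℕ} (hM : 0 < M) (hRM : R ^ M = 1) (A : Matrix (Fin l) (Fin l) ℤ) (hA : A.IsSymm)
    (hpos : ∀ x : Fin l → ℝ, x ≠ 0 → 0 < x ⬝ᵥ (A.map (Int.cast : ℤ → ℝ)) *ᵥ x)
    (hinv : ∀ x : Fin l → ℤ, R x ⬝ᵥ A *ᵥ R x = x ⬝ᵥ A *ᵥ x) {a : Fin l → ℤ} (ha : a ≠ 0) (hχa : χ a = 1) {N : ℕ}
    (hN : a ⬝ᵥ A *ᵥ a = N) (φ : (Fin l → ℤ) →ₗ[ℤ] ℤ) (hφ : φ a = 1) :
    ∃ d n : ℕ, 1 ≤ d ∧ 0 < n ∧ n ^ 2 ≤ N ^ d ∧ (d = 1 → n = 1) ∧ ∃ S : Finset ℕ, (∀ n ∈ S, 0 < n) ∧ ∑ n ∈ S, Nat.totient n + d ≤ l ∧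
      ∀ x, χ x ^ (n * (∏ n ∈ S, cyclotomic n ℤ).eval (q : ℤ)) = 1 := by
  classical
  let w : ℕ → Fin l → ℚ := fun i => cst ((R ^ i) a)
  -- the length of the longest independent segment
  obtain ⟨d, hd, hd'⟩ : ∃ d, LinearIndependent ℚ (fun i : Fin d => w i) ∧
      ¬ LinearIndependent ℚ (fun i : Fin (d + 1) => w i) := by
    by_contra hcon
    push Not at hcon
    have h1 : ∀ d, LinearIndependent ℚ (fun i : Fin d => w i) := by
      intro d
      induction d with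
      | zero => exact linearIndependent_empty_type
      | succ d ih => exact hcon d ih
    have h2 := (h1 (l + 1)).fintype_card_le_finrank
    rw [Module.finrank_fin_fun, Fintype.card_fin] at h2
    omega
  have ha' : cst a ≠ 0 := fun h => ha (cst_inj (by rw [h]; funext j; simp [cst]))
  have hd1 : 1 ≤ d := by
    by_contra h0
    have : d = 0 := by omega
    subst this
    apply hd'
    have : Subsingleton (Fin (0 + 1)) := inferInstanceAs (Subsingleton (Fin 1))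
    refine LinearIndependent.of_subsingleton (0 : Fin (0 + 1)) ?_
    show cst ((R ^ 0) a) ≠ 0
    rw [pow_zero]
    exact ha'
  set U : Submodule ℚ (Fin l → ℚ) := Submodule.span ℚ (Set.range fun i : Fin d => w i) with hU
  have hwd : w d ∈ U := by
    by_contra hcon
    apply hd'
    rw [linearIndependent_finSucc']
    exact ⟨hd, hcon⟩
  have hUR : ∀ x ∈ U, RQ R x ∈ U := by
    intro x hx
    induction hx using Submodule.span_induction with
    | mem x hx =>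
      obtain ⟨i, rfl⟩ := hx
      have h1 : RQ R (w i) = w (i + 1) := by
        show RQ R (cst ((R ^ (i : ℕ)) a)) = cst ((R ^ ((i : ℕ) + 1)) a)
        rw [RQ_cst, pow_succ', Module.End.mul_apply]
      show RQ R (w i) ∈ U
      rw [h1]
      by_cases h2 : (i : ℕ) + 1 < d
      · exact Submodule.subset_span ⟨⟨_, h2⟩, rfl⟩
      · have h3 : (i : ℕ) + 1 = d := by have := i.2; omega
        rw [h3]; exact hwd
    | zero => rw [map_zero]; exact zero_mem _
    | add x y _ _ hx hy => rw [map_add]; exact add_mem hx hy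
    | smul c x _ hx => rw [map_smul]; exact U.smul_mem c hx
  have hrank : Module.finrank ℚ U = d := by
    rw [hU, finrank_span_eq_card hd, Fintype.card_fin]
  obtain ⟨S, hS, h1, h2⟩ := Poly.exists_poly (RQ R) hM (RQ_pow hRM) U hUR
  rw [hrank, Module.finrank_fin_fun] at h1
  have hNi : ∀ i : ℕ, (R ^ i) a ⬝ᵥ A *ᵥ (R ^ i) a = N := by
    intro i
    induction i with
    | zero => exact hN
    | succ i ih => rw [pow_succ', Module.End.mul_apply, hinv, ih]
  have h4 : (∏ n ∈ S, cyclotomic n ℚ) = (∏ n ∈ S, cyclotomic n ℤ).map (Int.castRingHom ℚ) := by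
    rw [Polynomial.map_prod]
    exact Finset.prod_congr rfl fun n _ => (map_cyclotomic n _).symm
  have hz : ∀ j : Fin l, ∃ c : Fin d → ℚ, ∀ i, ((aeval R (∏ n ∈ S, cyclotomic n ℤ) (Pi.single j 1) i : ℤ) : ℚ) =
      ∑ m, c m * (((R ^ (m : ℕ)) a i : ℤ) : ℚ) := by
    intro j
    have h3 := h2 (cst (Pi.single j 1))
    rw [h4, aeval_cst, hU, Submodule.mem_span_range_iff_exists_fun] at h3
    obtain ⟨c, hc⟩ := h3
    refine ⟨c, fun i => ?_⟩
    have h6 := congrFun hc i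
    rw [Finset.sum_apply] at h6
    exact h6.symm
  obtain ⟨n, hn, hnN, hn1, h5⟩ : ∃ n : ℕ, 0 < n ∧ n ^ 2 ≤ N ^ d ∧ (d = 1 → n = 1) ∧ ∀ j : Fin l, ∃ m : Fin d → ℤ,
      ∀ i, (n : ℤ) * aeval R (∏ n ∈ S, cyclotomic n ℤ) (Pi.single j 1) i = ∑ x, m x * (R ^ (x : ℕ)) a i := by
    by_cases hd2 : d = 1
    · have hNpos : 0 < N := by
        have h6 := hpos (fun j => (a j : ℝ)) (fun h => ha (_root_.funext fun j => by
          have h7 : (a j : ℝ) = 0 := congrFun h j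
          rw [Pi.zero_apply]
          exact_mod_cast h7))
        have h7 : ((a ⬝ᵥ A *ᵥ a : ℤ) : ℝ) = (fun i => (a i : ℝ)) ⬝ᵥ
            (A.map (Int.cast : ℤ → ℝ)) *ᵥ (fun i => (a i : ℝ)) := by
          simp only [dotProduct, Matrix.mulVec, Matrix.map_apply, Int.cast_sum, Int.cast_mul]
        rw [← h7, hN] at h6
        exact_mod_cast h6
      refine ⟨1, one_pos, by rw [one_pow]; exact Nat.one_le_pow _ _ hNpos, fun _ => rfl, fun j => ?_⟩
      obtain ⟨c, hc⟩ := hz j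
      subst hd2
      set z := aeval R (∏ n ∈ S, cyclotomic n ℤ) (Pi.single j 1) with hzd
      have hc' : ∀ i, (z i : ℚ) = c 0 * (a i : ℚ) := by
        intro i
        rw [hc i, Fin.sum_univ_one]
        rfl
      have h6 : ((c 0).den : ℤ) • z = (c 0).num • a := by
        funext i
        rw [Pi.smul_apply, Pi.smul_apply, smul_eq_mul, smul_eq_mul]
        have h7 : (((c 0).den : ℤ) : ℚ) * (z i : ℚ) = ((c 0).num : ℚ) * (a i : ℚ) := by
          rw [hc' i, ← Rat.mul_den_eq_num (c 0)]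
          push_cast
          ring
        exact_mod_cast h7
      have h7 := congrArg φ h6
      rw [map_smul, map_smul, hφ, smul_eq_mul, smul_eq_mul, mul_one] at h7
      refine ⟨fun _ => φ z, fun i => ?_⟩
      rw [Fin.sum_univ_one]
      have h8 : ((c 0).den : ℤ) ≠ 0 := by exact_mod_cast (c 0).den_nz
      have h9 := congrFun h6 i
      rw [Pi.smul_apply, Pi.smul_apply, smul_eq_mul, smul_eq_mul, ← h7] at h9
      have h10 : z i = φ z * a i := mul_left_cancel₀ h8 (by rw [h9]; ring)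
      rw [Nat.cast_one, one_mul, h10]
      rfl
    · obtain ⟨n, hn, hnN, h5⟩ := Gram.exists_mult A hA hpos (fun i : Fin d => (R ^ (i : ℕ)) a) hd (fun i => hNi i)
        (fun j : Fin l => aeval R (∏ n ∈ S, cyclotomic n ℤ) (Pi.single j 1)) hz
      exact ⟨n, hn, hnN, fun h => absurd h hd2, h5⟩
  refine ⟨d, n, hd1, hn, hnN, hn1, S, hS, h1, ?_⟩
  have hχR : ∀ i : ℕ, χ ((R ^ i) a) = 1 := by
    intro i
    induction i with
    | zero => exact hχa
    | succ i ih => rw [pow_succ', Module.End.mul_apply, hR, ih, one_pow]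
  have key : ∀ j : Fin l, χ (Pi.single j 1) ^ (n * (∏ n ∈ S, cyclotomic n ℤ).eval (q : ℤ)) = 1 := by
    intro j
    obtain ⟨m, hm⟩ := h5 j
    rw [mul_comm, _root_.zpow_mul, ← chi_poly hχ hR, ← hχ.zsmul]
    have h6 : (n : ℤ) • aeval R (∏ n ∈ S, cyclotomic n ℤ) (Pi.single j 1) = ∑ i : Fin d, m i • (R ^ (i : ℕ)) a := by
      funext i
      rw [Pi.smul_apply, smul_eq_mul, hm i, Finset.sum_apply]
      rfl
    rw [h6, hχ.sum_smul]
    exact Finset.prod_eq_one fun i _ => by rw [hχR, _root_.one_zpow]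
  intro x
  have h7 := hχ.eq_prod x
  have h8 : ∀ i : Fin l, (Tits.Roots.sr i : Fin l → ℤ) = Pi.single i 1 := fun i => rfl
  rw [h7, ← Finset.prod_zpow]
  refine Finset.prod_eq_one fun i _ => ?_
  rw [← _root_.zpow_mul, mul_comm (x i), _root_.zpow_mul, h8, key, _root_.one_zpow]

end Chi

end Cfsg.Agent.H482.TwoCyc.Lat
end

-- part: H482/TwoCyc/Pair
section
/-!
# Jordan decomposition of fixed elements of a Frobenius: semisimple and unipotent parts (helper482)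

* `pair` : `s, u ∈ Y^σ` commuting, `s` of order prime to `p`, `u` of `p`-power order: a toral element `t` and its
  character `χ` with `χ (w (g x)) = χ x ^ q`, and `u` is conjugate into `⟨X a : a > 0, χ a = 1⟩`;
* `U_two`, `U_odd` : the exponent of `⟨X a : a > 0⟩` from the heights of the roots.
-/

set_option autoImplicit false
set_option linter.unusedSectionVars false

namespace Cfsg.Agent.H482.TwoCyc.Pair

open CoxeterSystem Cfsg Cfsg.Lie Cfsg.Lie.ChevalleyDatum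
open Cfsg.Agent.ChevalleyStructure Cfsg.Agent.ChevalleyStructure.Elts Cfsg.Agent.ChevalleyStructure.CoxeterGeom
  Cfsg.Agent.ChevalleyStructure.CoxeterGeomTypes Cfsg.Agent.ChevalleyStructure.NPerm
open Cfsg.Agent.Tits.Roots Cfsg.Agent.Tits.Core Cfsg.Agent.Nodes Cfsg.Agent.Nodes.Reps Cfsg.Agent.Nodes.BNOf
  Cfsg.Agent.Nodes.RGDChev Cfsg.Agent.Nodes.Bruhat
open Cfsg.Agent.KFacts.RgdField Cfsg.Agent.KFacts.RgdChevCoord
open Cfsg.Agent.BpExc Cfsg.Agent.BpExc.TorCent Cfsg.Agent.BpExc.TorChev Cfsg.Agent.BpExc.Tow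
  Cfsg.Agent.BpExc.TowChev Cfsg.Agent.BpExc.Fr Cfsg.Agent.BpExc.NInst
open Cfsg.Agent.H129.TorusChar Cfsg.Agent.BpExc.LangFr
open Cfsg.Agent.H378
open scoped commutatorElement

universe u v

variable {D : ChevalleyDatum} {l : ℕ} {M : CoxeterMatrix (Fin l)} (hp : IsType D l M) {k : Type u} [Field k]
  {W : Type v} [Group W] (cs : CoxeterSystem M W)

section Pr

variable [IsAlgClosed k] [Finite W] {p e : ℕ} [Fact p.Prime] [CharP k p]
  {σ : MulAut ↥(D.group k)} {g : (Fin l → ℤ) ≃+ (Fin l → ℤ)}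

/-- the twisted action on the characters -/
theorem fr_conj_chi (hk : LocFin k) (hσ : IsFrob p e σ) (F : Fr cs hp.isCartan (TT D k) (XX D l k) σ g)
    {hN : NSys M (TT D k) (nc hp k)} {w : W}
    {n t : ↥(D.group k)} (hn : Rp cs hN w n) (ht : t ∈ TT D k) (hnt : n * σ t * n⁻¹ = t)
    (x : Fin l → ℤ) : cX hp t (rep cs hp.isCartan w (g x)) = cX hp t x ^ p ^ e := by
  have F1 := H720.TorusReal.fr_conj hp cs hk p hn
  have F2 : Fr cs hp.isCartan (TT D k) (XX D l k) (MulAut.conj n * σ) (g.trans (repAut cs hp.isCartan w)) :=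
    F1.mul F
  have h1 := cX_sigma hp cs (hσ.conj_mul n) F2 ht x
  have h2 : (MulAut.conj n * σ) t = t := hnt
  rw [h2] at h1
  exact h1

/-- **Pairs of commuting elements.** -/
theorem pair (hk : LocFin k) (hka : BpExc.TorAll.HAlg p k) (hσ : IsFrob p e σ)
    (F : Fr cs hp.isCartan (TT D k) (XX D l k) σ g) {s u : ↥(D.group k)} (hσs : σ s = s)
    (hsu : u * s = s * u) {m : ℕ} (hm : m ≠ 0) (hmp : m.Coprime p) (hsm : s ^ m = 1) {j : ℕ} (huj : u ^ p ^ j = 1) :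
    ∃ (t : ↥(D.group k)) (w : W), t ∈ TT D k ∧
      (∀ x, cX hp t (rep cs hp.isCartan w (g x)) = cX hp t x ^ p ^ e) ∧ (∀ a : ℕ, (∀ x, cX hp t x ^ a = 1) → s ^ a = 1) ∧
      ∃ u' ∈ RGD.Sup (XX D l k) {a | IsRoot cs hp.isCartan a ∧ 0 ≤ a ∧ cX hp t a = 1}, ∀ a : ℕ, u' ^ a = 1 → u ^ a = 1 := by
  have H := tow (k := k) hp cs hk p
  have hN : NSys M (TT D k) (nc hp k) := by
    have h1 := H.nsys
    rwa [TL_eq hp hk] at h1
  obtain ⟨z, t, n, w, hx, ht, hn, hnt⟩ := H720.TorusReal.exists_toral hp cs hka hk F hN hσs hm hmp hsm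
  have hchi := fr_conj_chi hp cs hk hσ F hn ht hnt
  refine ⟨t, w, ht, hchi, ?_, ?_⟩
  · intro a ha
    have h2 : t ^ a = 1 := cX_inj hp (pow_mem ht a) (one_mem _) fun j => by
      rw [cX_pow hp ht, ha, cX_one]
    rw [hx, conj_pow, h2]
    group
  · obtain ⟨g₂, hg₂, hU⟩ := UnipCent.exists_conj hp cs hk (p := p) ht (u := z⁻¹ * u * z) (j := j) (by
      have h1 : t = z⁻¹ * s * z := by rw [hx]; group
      rw [h1]
      calc z⁻¹ * u * z * (z⁻¹ * s * z) = z⁻¹ * (u * s) * z := by group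
        _ = z⁻¹ * (s * u) * z := by rw [hsu]
        _ = _ := by group) (by
      have h1 := conj_pow (a := z⁻¹) (b := u) (i := p ^ j)
      rw [inv_inv] at h1
      rw [h1, huj]; group)
    refine ⟨g₂ * (z⁻¹ * u * z) * g₂⁻¹, RGD.Sup_mono (S := SP (Sx cs hp.isCartan (ch hp) t)) ?_ hU, ?_⟩
    · intro a ha
      exact ⟨ha.1.1, ha.2, by rw [cX_root hp cs ht ha.1.1]; exact ha.1.2⟩
    · intro a h1
      have h2 : u = (g₂ * z⁻¹)⁻¹ * (g₂ * (z⁻¹ * u * z) * g₂⁻¹) * (g₂ * z⁻¹) := by group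
      have h3 := conj_pow (a := (g₂ * z⁻¹)⁻¹) (b := g₂ * (z⁻¹ * u * z) * g₂⁻¹) (i := a)
      rw [inv_inv] at h3
      rw [h2, h3, h1]; group

end Pr

/-! ### unipotent elements -/

section Unip

variable (hk : LocFin k) (p : ℕ) [Fact p.Prime] [CharP k p]

/-- the positive roots of height at least `n` -/
def Hn (n : ℤ) : Set (Fin l → ℤ) := {x | IsRoot cs hp.isCartan x ∧ 0 ≤ x ∧ n ≤ Tits.Roots.ht x}

variable {x : ↥(D.group k)}

include hk p

/-- commutators of positive root groups -/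
theorem comm_pos {S : Set (Fin l → ℤ)} {a b : Fin l → ℤ}
    (ha : IsRoot cs hp.isCartan a) (ha0 : 0 ≤ a) (hb : IsRoot cs hp.isCartan b) (hb0 : 0 ≤ b)
    (hS : ∀ i j : ℕ, 0 < i → 0 < j → IsRoot cs hp.isCartan (i • a + j • b) → i • a + j • b ∈ S) {x y : ↥(D.group k)}
    (hx : x ∈ XX D l k a) (hy : y ∈ XX D l k b) : ⁅x, y⁆ ∈ RGD.Sup (XX D l k) S := by
  have C := coordsL hp cs hk p
  by_cases hab : a = b
  · subst hab
    obtain ⟨s, rfl⟩ := ((C.coord a ha).mem x).1 hx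
    obtain ⟨t, rfl⟩ := ((C.coord a ha).mem y).1 hy
    have h1 : ⁅xc hp a s, xc hp a t⁆ = 1 := by
      rw [commutatorElement_eq_one_iff_mul_comm, ← (C.coord a ha).add, ← (C.coord a ha).add, add_comm]
    rw [h1]
    exact one_mem _
  · have hab' : a ≠ -b := by
      rintro rfl
      exact hb.neg.not_pos_neg ha0 (neg_nonpos.2 hb0)
    refine RGD.Sup_mono (S := BpExc.CommZ.combZ cs hp a b) ?_ (BpExc.CommZ.comm_mem_Z hp cs ha hb hab hab' hx hy)
    rintro z ⟨hz, i, j, hi, hj, rfl⟩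
    exact hS i j hi hj hz

theorem comm_Hn {m n : ℤ} (hm : 0 ≤ m) (hn : 0 ≤ n) {a b : Fin l → ℤ} (ha : a ∈ Hn hp cs m) (hb : b ∈ Hn hp cs n)
    {x y : ↥(D.group k)} (hx : x ∈ XX D l k a) (hy : y ∈ XX D l k b) {r : ℤ} (hl : r ≤ m + n) :
    ⁅x, y⁆ ∈ RGD.Sup (XX D l k) (Hn hp cs r) := by
  refine comm_pos hp cs hk p (S := Hn hp cs r) ha.1 ha.2.1 hb.1 hb.2.1 (fun i j hi hj h => ⟨h, ?_, ?_⟩) hx hy
  · exact add_nonneg (nsmul_nonneg ha.2.1 i) (nsmul_nonneg hb.2.1 j)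
  · have e : Tits.Roots.ht (i • a + j • b) = i * Tits.Roots.ht a + j * Tits.Roots.ht b := by
      rw [RGD.ht_add]
      have h1 : ∀ (n : ℕ) (x : Fin l → ℤ), Tits.Roots.ht (n • x) = n * Tits.Roots.ht x := by
        intro n x
        simp only [Tits.Roots.ht, Pi.smul_apply, nsmul_eq_mul, Finset.mul_sum]
      rw [h1, h1]
    rw [e]
    have h1 := ha.2.2
    have h2 := hb.2.2
    have h3 : (1 : ℤ) ≤ i := by exact_mod_cast hi
    have h4 : (1 : ℤ) ≤ j := by exact_mod_cast hj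
    nlinarith only [hm, hn, hl, hi, hj, h1, h2]

theorem pow_root {a : Fin l → ℤ}
    (ha : IsRoot cs hp.isCartan a) {x : ↥(D.group k)} (hx : x ∈ XX D l k a) : x ^ p = 1 := by
  have C := coordsL hp cs hk p
  obtain ⟨s, rfl⟩ := ((C.coord a ha).mem x).1 hx
  have h1 : ∀ n : ℕ, xc hp a s ^ n = xc hp a (n * s) := by
    intro n
    induction n with
    | zero => rw [pow_zero, Nat.cast_zero, zero_mul, (C.coord a ha).zero]
    | succ n ih => rw [pow_succ, ih, ← (C.coord a ha).add, Nat.cast_succ, add_mul, one_mul]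
  rw [h1, CharP.cast_eq_zero, zero_mul, (C.coord a ha).zero]

/-- `p`-th powers double the height -/
theorem dbl_Hn {n : ℤ} (hn : 0 ≤ n) (hx : x ∈ RGD.Sup (XX D l k) (Hn hp cs n)) :
    x ^ p ∈ RGD.Sup (XX D l k) (Hn hp cs (2 * n)) := by
  refine NilExp.pow_mem (S := Hn hp cs n) (S' := Hn hp cs (2 * n)) ?_ ?_ ?_ hx
  · rintro a ⟨h1, h2, h3⟩
    exact ⟨h1, h2, by omega⟩
  · intro a ha b hb y hy z hz
    exact comm_Hn hp cs hk p hn hn ha hb hy hz (by omega)
  · intro a ha y hy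
    exact pow_root hp cs hk p ha.1 hy

/-- `p` odd: `p`-th powers triple the height -/
theorem tri_Hn (hodd : Odd p) {n : ℤ} (hn : 0 ≤ n) (hx : x ∈ RGD.Sup (XX D l k) (Hn hp cs n)) :
    x ^ p ∈ RGD.Sup (XX D l k) (Hn hp cs (3 * n)) := by
  refine odd_mem hodd (S := Hn hp cs n) (S₁ := Hn hp cs (2 * n)) (S' := Hn hp cs (3 * n)) ?_ ?_ ?_ ?_ ?_ hx
  · rintro a ⟨h1, h2, h3⟩
    exact ⟨h1, h2, by omega⟩
  · rintro a ⟨h1, h2, h3⟩
    exact ⟨h1, h2, by omega⟩
  · intro a ha b hb y hy z hz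
    exact comm_Hn hp cs hk p hn hn ha hb hy hz (by omega)
  · intro a ha b hb y hy z hz
    exact comm_Hn hp cs hk p (by omega) hn ha hb hy hz (by omega)
  · intro a ha y hy
    exact pow_root hp cs hk p ha.1 hy

theorem Hn_empty {N : ℤ} (hht : ∀ a, IsRoot cs hp.isCartan a → Tits.Roots.ht a ≤ N) {n : ℤ} (hn : N < n)
    (hx : x ∈ RGD.Sup (XX D l k) (Hn hp cs n)) : x = 1 := by
  have h1 : Hn hp cs n = ∅ := by
    rw [Set.eq_empty_iff_forall_notMem]
    rintro a ⟨ha, h0, h1⟩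
    have := hht a ha
    omega
  rw [h1] at hx
  have h2 : RGD.Sup (XX D l k) (∅ : Set (Fin l → ℤ)) ≤ ⊥ := RGD.Sup_le fun a ha => absurd ha (Set.notMem_empty a)
  exact Subgroup.mem_bot.1 (h2 hx)

/-- **The exponent of `U`** from the heights -/
theorem U_dbl {N : ℤ} (hht : ∀ a, IsRoot cs hp.isCartan a → Tits.Roots.ht a ≤ N) {j : ℕ} (hj : N < 2 ^ j)
    (hx : x ∈ RGD.Sup (XX D l k) (Hn hp cs 1)) : x ^ p ^ j = 1 := by
  have key : ∀ j : ℕ, x ^ p ^ j ∈ RGD.Sup (XX D l k) (Hn hp cs (2 ^ j)) := by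
    intro j
    induction j with
    | zero => rw [pow_zero p, pow_one, pow_zero]; exact hx
    | succ j ih =>
      have h1 := dbl_Hn hp cs hk p (by positivity) ih
      rw [← pow_mul, ← pow_succ] at h1
      rwa [← pow_succ'] at h1
  exact Hn_empty hp cs hk p hht hj (key j)

theorem U_tri (hodd : Odd p) {N : ℤ} (hht : ∀ a, IsRoot cs hp.isCartan a → Tits.Roots.ht a ≤ N) {j : ℕ}
    (hj : N < 3 ^ j) (hx : x ∈ RGD.Sup (XX D l k) (Hn hp cs 1)) : x ^ p ^ j = 1 := by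
  have key : ∀ j : ℕ, x ^ p ^ j ∈ RGD.Sup (XX D l k) (Hn hp cs (3 ^ j)) := by
    intro j
    induction j with
    | zero => rw [pow_zero p, pow_one, pow_zero]; exact hx
    | succ j ih =>
      have h1 := tri_Hn hp cs hk p hodd (by positivity) ih
      rw [← pow_mul, ← pow_succ] at h1
      rwa [← pow_succ'] at h1
  exact Hn_empty hp cs hk p hht hj (key j)

end Unip

end Cfsg.Agent.H482.TwoCyc.Pair
end

-- part: H482/TwoCyc/Eng
section
/-!
# Orders of the fixed elements of a Frobenius (helper482)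

* `pos_of_cert` : positive definiteness from a certificate;
* `engine` : the orders of the semisimple and unipotent parts of `x`, `σ x = x`.
-/

set_option autoImplicit false
set_option linter.unusedSectionVars false

namespace Cfsg.Agent.H482.TwoCyc.Eng

open CoxeterSystem Cfsg Cfsg.Lie Cfsg.Lie.ChevalleyDatum
open Cfsg.Agent.ChevalleyStructure Cfsg.Agent.ChevalleyStructure.Elts Cfsg.Agent.ChevalleyStructure.CoxeterGeom
  Cfsg.Agent.ChevalleyStructure.CoxeterGeomTypes Cfsg.Agent.ChevalleyStructure.NPerm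
open Cfsg.Agent.Tits.Roots Cfsg.Agent.Tits.Core Cfsg.Agent.Nodes Cfsg.Agent.Nodes.Reps Cfsg.Agent.Nodes.BNOf
  Cfsg.Agent.Nodes.RGDChev Cfsg.Agent.Nodes.Bruhat
open Cfsg.Agent.KFacts.RgdField Cfsg.Agent.KFacts.RgdChevCoord
open Cfsg.Agent.BpExc Cfsg.Agent.BpExc.TorCent Cfsg.Agent.BpExc.TorChev Cfsg.Agent.BpExc.Tow
  Cfsg.Agent.BpExc.TowChev Cfsg.Agent.BpExc.Fr Cfsg.Agent.BpExc.NInst
open Cfsg.Agent.H129.TorusChar Cfsg.Agent.BpExc.LangFr
open Cfsg.Agent.H482.TwoCyc.Pair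
open Polynomial Matrix

universe u v

/-! ### forms -/

/-- a certificate of positive definiteness -/
def Cert {l : ℕ} (A P Q : Fin l → Fin l → ℤ) (c : Fin l → ℤ) (K κ : ℤ) : Prop :=
  0 < K ∧ (∀ i, 0 < c i) ∧ (∀ i j, A i j = A j i) ∧ (∀ i j, K * A i j = ∑ m, c m * P m i * P m j) ∧
    (∀ i j, ∑ m, Q i m * P m j = if i = j then κ else 0) ∧ κ ≠ 0

instance {l : ℕ} (A P Q : Fin l → Fin l → ℤ) (c : Fin l → ℤ) (K κ : ℤ) : Decidable (Cert A P Q c K κ) := by
  unfold Cert; infer_instance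

theorem pos_of_cert {l : ℕ} {A P Q : Fin l → Fin l → ℤ} {c : Fin l → ℤ} {K κ : ℤ} (h : Cert A P Q c K κ)
    (x : Fin l → ℝ) (hx : x ≠ 0) : 0 < x ⬝ᵥ ((Matrix.of A).map (Int.cast : ℤ → ℝ)) *ᵥ x := by
  obtain ⟨hK, hc, -, hP, hQ, hκ⟩ := h
  have hK' : (0 : ℝ) < K := by exact_mod_cast hK
  have h1 : (K : ℝ) * (x ⬝ᵥ ((Matrix.of A).map (Int.cast : ℤ → ℝ)) *ᵥ x) =
      ∑ m, (c m : ℝ) * (∑ i, (P m i : ℝ) * x i) ^ 2 := by
    have h2 : ∀ i j, (K : ℝ) * (A i j : ℝ) = ∑ m, (c m : ℝ) * (P m i : ℝ) * (P m j : ℝ) := by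
      intro i j
      exact_mod_cast hP i j
    simp only [dotProduct, Matrix.mulVec, Matrix.map_apply, Matrix.of_apply, Finset.mul_sum, pow_two,
      Finset.sum_mul]
    have h3 : ∀ i j, (K : ℝ) * (x i * ((A i j : ℝ) * x j)) = ∑ m, (c m : ℝ) * (P m i * x i * (P m j * x j)) := by
      intro i j
      have : (K : ℝ) * (x i * ((A i j : ℝ) * x j)) = (K * A i j) * (x i * x j) := by ring
      rw [this, h2, Finset.sum_mul]
      exact Finset.sum_congr rfl fun m _ => by ring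
    simp only [h3]
    rw [Finset.sum_congr rfl fun i _ => Finset.sum_comm, Finset.sum_comm]
    refine Finset.sum_congr rfl fun m _ => ?_
    rw [Finset.sum_comm]
  have h2 : 0 < ∑ m, (c m : ℝ) * (∑ i, (P m i : ℝ) * x i) ^ 2 := by
    have hc' : ∀ m, (0 : ℝ) < c m := fun m => by exact_mod_cast hc m
    refine lt_of_le_of_ne (Finset.sum_nonneg fun m _ => mul_nonneg (hc' m).le (sq_nonneg _)) (Ne.symm ?_)
    intro h0
    apply hx
    rw [Finset.sum_eq_zero_iff_of_nonneg fun m _ => mul_nonneg (hc' m).le (sq_nonneg _)] at h0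
    have h3 : ∀ m, ∑ i, (P m i : ℝ) * x i = 0 := by
      intro m
      have h4 := h0 m (Finset.mem_univ m)
      rcases mul_eq_zero.1 h4 with h5 | h5
      · exact absurd h5 (hc' m).ne'
      · exact pow_eq_zero_iff (two_ne_zero) |>.1 h5
    funext i
    have h4 : (κ : ℝ) * x i = 0 := by
      have h5 : ∀ i j, ∑ m, (Q i m : ℝ) * (P m j : ℝ) = if i = j then (κ : ℝ) else 0 := by
        intro i j
        have := hQ i j
        split_ifs with h6
        · rw [if_pos h6] at this; exact_mod_cast this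
        · rw [if_neg h6] at this; exact_mod_cast this
      calc (κ : ℝ) * x i = ∑ j, (if i = j then (κ : ℝ) else 0) * x j := by simp only [_root_.ite_mul, _root_.MulZeroClass.zero_mul, _root_.Finset.sum_ite_eq, _root_.Finset.mem_univ, ↓ _root_.reduceIte]
        _ = ∑ j, (∑ m, (Q i m : ℝ) * (P m j : ℝ)) * x j := by simp only [h5]
        _ = ∑ m, (Q i m : ℝ) * ∑ j, (P m j : ℝ) * x j := by
            simp only [Finset.sum_mul, Finset.mul_sum]
            rw [Finset.sum_comm]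
            exact Finset.sum_congr rfl fun m _ => Finset.sum_congr rfl fun j _ => by ring
        _ = 0 := by simp only [h3, mul_zero, Finset.sum_const_zero]
    rcases mul_eq_zero.1 h4 with h5 | h5
    · exact absurd (by exact_mod_cast h5) hκ
    · exact h5
  rw [← h1] at h2
  exact (mul_pos_iff_of_pos_left hK').1 h2

section

variable {D : ChevalleyDatum} {l : ℕ} {M : CoxeterMatrix (Fin l)} (hp : IsType D l M) {k : Type u} [Field k]
  {W : Type v} [Group W] (cs : CoxeterSystem M W)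

/-- the value of the form -/
def bq {l : ℕ} (A : Fin l → Fin l → ℤ) (x : Fin l → ℤ) : ℤ := x ⬝ᵥ (Matrix.of A) *ᵥ x

theorem bq_eq {l : ℕ} (A : Fin l → Fin l → ℤ) (x : Fin l → ℤ) : bq A x = ∑ i, ∑ j, x i * A i j * x j := by
  simp only [bq, dotProduct, Matrix.mulVec, Matrix.of_apply, Finset.mul_sum]
  exact Finset.sum_congr rfl fun i _ => Finset.sum_congr rfl fun j _ => by ring

theorem bq_simple {A : Fin l → Fin l → ℤ} (hA : ∀ i j, A i j = A j i)
    (hAc : ∀ i j, 2 * A i j = A i i * cartanOf D l i j) (i : Fin l) (x : Fin l → ℤ) :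
    bq A (rep cs hp.isCartan (cs.simple i) x) = bq A x := by
  rw [rep_simple_eq]
  set c := pairing (cartanOf D l) i x with hc
  have h1 : 2 * ∑ j, A i j * x j = A i i * c := by
    rw [hc, pairing, Finset.mul_sum, Finset.mul_sum]
    refine Finset.sum_congr rfl fun j _ => ?_
    rw [← mul_assoc, hAc, mul_assoc]
  have h2 : ∀ y z : Fin l → ℤ, ∀ c : ℤ, bq A (y - c • z) = bq A y - c * (2 * ∑ i, ∑ j, z i * A i j * y j) +
      c ^ 2 * bq A z := by
    intro y z c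
    have hsw : ∑ i, ∑ j, y i * A i j * z j = ∑ i, ∑ j, z i * A i j * y j := by
      rw [Finset.sum_comm]
      exact Finset.sum_congr rfl fun i _ => Finset.sum_congr rfl fun j _ => by rw [hA j i]; ring
    rw [bq_eq, bq_eq, bq_eq]
    have h3 : ∀ i j, (y - c • z) i * A i j * (y - c • z) j = y i * A i j * y j - c * (y i * A i j * z j) -
        c * (z i * A i j * y j) + c ^ 2 * (z i * A i j * z j) := by
      intro i j
      simp only [Pi.sub_apply, Pi.smul_apply, smul_eq_mul]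
      ring
    simp only [h3, Finset.sum_add_distrib, Finset.sum_sub_distrib, ← Finset.mul_sum]
    rw [hsw]
    ring
  have h3 : ∑ m, ∑ j, (sr i : Fin l → ℤ) m * A m j * x j = ∑ j, A i j * x j := by
    rw [Finset.sum_eq_single i]
    · refine Finset.sum_congr rfl fun j _ => ?_
      rw [sr_self, one_mul]
    · intro m _ hm
      refine Finset.sum_eq_zero fun j _ => ?_
      rw [sr_ne hm, zero_mul, zero_mul]
    · intro h; exact absurd (Finset.mem_univ i) h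
  have h4 : bq A (sr i : Fin l → ℤ) = A i i := by
    rw [bq_eq, Finset.sum_eq_single i]
    · rw [Finset.sum_eq_single i]
      · rw [sr_self, one_mul, mul_one]
      · intro m _ hm
        rw [sr_ne hm, mul_zero]
      · intro h; exact absurd (Finset.mem_univ i) h
    · intro m _ hm
      refine Finset.sum_eq_zero fun j _ => ?_
      rw [sr_ne hm, zero_mul, zero_mul]
    · intro h; exact absurd (Finset.mem_univ i) h
  rw [h2, h3, h1, h4]
  ring

theorem bq_rep {A : Fin l → Fin l → ℤ} (hA : ∀ i j, A i j = A j i)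
    (hAc : ∀ i j, 2 * A i j = A i i * cartanOf D l i j) (w : W) (x : Fin l → ℤ) :
    bq A (rep cs hp.isCartan w x) = bq A x := by
  obtain ⟨ω, rfl⟩ := cs.wordProd_surjective w
  induction ω with
  | nil => rw [wordProd_nil, map_one, Module.End.one_apply]
  | cons i ω ih => rw [wordProd_cons, rep_mul_apply, bq_simple hp cs hA hAc, ih]

/-- an injective endomorphism permuting the roots has finite order -/
theorem exists_pow [Finite W] {R : Module.End ℤ (Fin l → ℤ)} (hinj : Function.Injective R)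
    (hR : ∀ a, _root_.Cfsg.Agent.Tits.Roots.IsRoot cs hp.isCartan a → _root_.Cfsg.Agent.Tits.Roots.IsRoot cs hp.isCartan (R a)) : ∃ n : ℕ, 0 < n ∧ R ^ n = 1 := by
  classical
  have hfin : Finite {a : Fin l → ℤ // _root_.Cfsg.Agent.Tits.Roots.IsRoot cs hp.isCartan a} := by
    have h1 : {a : Fin l → ℤ | _root_.Cfsg.Agent.Tits.Roots.IsRoot cs hp.isCartan a} ⊆ Set.range fun r : Fin D.nroots => _root_.Cfsg.Agent.Nodes.RGDChev.vec D l r := by
      intro a ha
      obtain ⟨r, hr, rfl⟩ := (isRoot_iff hp cs a).1 ha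
      exact ⟨⟨r, hr⟩, rfl⟩
    exact ((Set.finite_range _).subset h1).to_subtype
  let f : {a : Fin l → ℤ // _root_.Cfsg.Agent.Tits.Roots.IsRoot cs hp.isCartan a} → {a : Fin l → ℤ // _root_.Cfsg.Agent.Tits.Roots.IsRoot cs hp.isCartan a} :=
    fun a => ⟨R a.1, hR a.1 a.2⟩
  have hf : Function.Injective f := fun a b h => Subtype.ext (hinj (congrArg Subtype.val h))
  let σ : Equiv.Perm {a : Fin l → ℤ // _root_.Cfsg.Agent.Tits.Roots.IsRoot cs hp.isCartan a} := Equiv.ofBijective f (Finite.injective_iff_bijective.1 hf)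
  have h1 : ∀ (n : ℕ) (a : {a : Fin l → ℤ // _root_.Cfsg.Agent.Tits.Roots.IsRoot cs hp.isCartan a}), (((σ ^ n) a : _) : Fin l → ℤ) = (R ^ n) a.1 := by
    intro n
    induction n with
    | zero => intro a; rfl
    | succ n ih =>
      intro a
      rw [pow_succ, pow_succ, Equiv.Perm.mul_apply, Module.End.mul_apply, ih]
      rfl
  refine ⟨orderOf σ, orderOf_pos σ, ?_⟩
  refine (Pi.basisFun ℤ (Fin l)).ext fun i => ?_
  have h2 : (Pi.basisFun ℤ (Fin l)) i = (sr i : Fin l → ℤ) := by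
    rw [Pi.basisFun_apply]; rfl
  rw [h2]
  have h3 := h1 (orderOf σ) ⟨sr i, isRoot_sr _ _ i⟩
  rw [pow_orderOf_eq_one] at h3
  exact h3.symm

variable [IsAlgClosed k] [Finite W] {p e : ℕ} [Fact p.Prime] [CharP k p]
  {σ : MulAut ↥(D.group k)} {g : (Fin l → ℤ) ≃+ (Fin l → ℤ)}

/-- **The orders of the elements of `Y^σ`**, the data. -/
theorem raw (hk : LocFin k) (hka : BpExc.TorAll.HAlg p k) (hσ : IsFrob p e σ)
    (F : Fr cs hp.isCartan (TT D k) (XX D l k) σ g)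
    {G : Type*} [Group G] (f : G →* ↥(D.group k)) (hf : Function.Injective f) (x : G) (hx : σ (f x) = f x)
    (hx0 : 0 < orderOf x) :
    ∃ m j : ℕ, orderOf x = m * p ^ j ∧ m.Coprime p ∧ 0 < m ∧ ∃ (χ : (Fin l → ℤ) → k) (R : Module.End ℤ (Fin l → ℤ)),
      IsMC χ ∧ (∃ w : W, ∀ y, R y = rep cs hp.isCartan w (g y)) ∧ (∀ y, χ (R y) = χ y ^ p ^ e) ∧
      (∀ a : ℕ, (∀ y, χ y ^ a = 1) → m ∣ a) ∧
      ∃ u' ∈ RGD.Sup (XX D l k) {a | _root_.Cfsg.Agent.Tits.Roots.IsRoot cs hp.isCartan a ∧ 0 ≤ a ∧ χ a = 1}, ∀ i : ℕ, u' ^ p ^ i = 1 → j ≤ i := by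
  have hpp : p.Prime := Fact.out
  -- the decomposition
  obtain ⟨j, m, hm, hmj⟩ := Nat.exists_eq_pow_mul_and_not_dvd hx0.ne' p hpp.ne_one
  have hmp : m.Coprime p := ((Nat.Prime.coprime_iff_not_dvd hpp).2 hm).symm
  have hm0 : 0 < m := by
    rcases Nat.eq_zero_or_pos m with rfl | h
    · rw [mul_zero] at hmj; omega
    · exact h
  have hpj : 0 < p ^ j := pow_pos hpp.pos j
  set s : ↥(D.group k) := f x ^ p ^ j with hs
  set u : ↥(D.group k) := f x ^ m with hu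
  have hfx : orderOf (f x) = p ^ j * m := by rw [orderOf_injective f hf]; exact hmj
  have hos : orderOf s = m := by
    rw [hs, orderOf_pow' _ hpj.ne', hfx, Nat.gcd_eq_right (Dvd.intro _ rfl), Nat.mul_div_cancel_left _ hpj]
  have hou : orderOf u = p ^ j := by
    rw [hu, orderOf_pow' _ hm0.ne', hfx, Nat.gcd_eq_right (Dvd.intro_left _ rfl), Nat.mul_div_cancel _ hm0]
  have hσs : σ s = s := by rw [hs, map_pow, hx]
  have hsu : u * s = s * u := by rw [hs, hu]; exact (Commute.refl (f x)).pow_pow _ _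
  obtain ⟨t, w, ht, hchi, h1, u', hu', h2⟩ := pair hp cs hk hka hσ F hσs hsu hm0.ne' hmp
    (by rw [← hos, pow_orderOf_eq_one]) (j := j) (by rw [← hou, pow_orderOf_eq_one])
  refine ⟨m, j, by rw [hmj, mul_comm], hmp, hm0, cX hp t,
    (rep cs hp.isCartan w) ∘ₗ (g.toIntLinearEquiv : (Fin l → ℤ) →ₗ[ℤ] (Fin l → ℤ)), isMC_cX hp ht,
    ⟨w, fun y => rfl⟩, hchi, ?_, u', hu', ?_⟩
  · intro a ha
    rw [← hos]
    exact orderOf_dvd_of_pow_eq_one (h1 a ha)
  · intro i hi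
    have h3 := orderOf_dvd_of_pow_eq_one (h2 _ hi)
    rw [hou] at h3
    exact (Nat.pow_dvd_pow_iff_le_right hpp.one_lt).1 h3

/-- **The orders of the elements of `Y^σ`.** -/
theorem engine (hk : LocFin k) (hka : BpExc.TorAll.HAlg p k) (hσ : IsFrob p e σ)
    (F : Fr cs hp.isCartan (TT D k) (XX D l k) σ g) {A P Q : Fin l → Fin l → ℤ} {c : Fin l → ℤ} {K κ : ℤ}
    (hcert : Cert A P Q c K κ) (hAc : ∀ i j, 2 * A i j = A i i * cartanOf D l i j) (hg : ∀ x, bq A (g x) = bq A x)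
    {N : ℕ} (hN : ∀ r < D.nroots, bq A (_root_.Cfsg.Agent.Nodes.RGDChev.vec D l r) ≤ N) {J : ℕ}
    (hJ : ∀ u ∈ RGD.Sup (XX D l k) (Hn hp cs 1), u ^ p ^ J = 1)
    {G : Type*} [Group G] (f : G →* ↥(D.group k)) (hf : Function.Injective f) (x : G) (hx : σ (f x) = f x)
    (hx0 : 0 < orderOf x) :
    ∃ m j : ℕ, orderOf x = m * p ^ j ∧ m.Coprime p ∧ j ≤ J ∧
      (∃ S : Finset ℕ, (∀ n ∈ S, 0 < n) ∧ ∑ n ∈ S, Nat.totient n ≤ l ∧
        (m : ℤ) ∣ (∏ n ∈ S, cyclotomic n ℤ).eval ((p ^ e : ℕ) : ℤ)) ∧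
      (j ≠ 0 → ∃ d n : ℕ, 1 ≤ d ∧ 0 < n ∧ n ^ 2 ≤ N ^ d ∧ (d = 1 → n = 1) ∧
        ∃ S : Finset ℕ, (∀ n ∈ S, 0 < n) ∧ ∑ n ∈ S, Nat.totient n + d ≤ l ∧
          (m : ℤ) ∣ n * (∏ n ∈ S, cyclotomic n ℤ).eval ((p ^ e : ℕ) : ℤ)) := by
  obtain ⟨m, j, h1, hmp, hm0, χ, R, hχ, ⟨w, hRw⟩, hR, hdvd, u', hu', hj⟩ := raw hp cs hk hka hσ F f hf x hx hx0
  have hRinj : Function.Injective R := by
    intro a b hab
    rw [hRw, hRw] at hab
    have h2 : g a = g b := by
      rw [← rep_inv_apply cs hp.isCartan w (g a), hab, rep_inv_apply]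
    exact g.injective h2
  obtain ⟨M', hM', hRM⟩ := exists_pow hp cs hRinj (fun a ha => by
    rw [hRw]; exact ((F.root a).2 ha).act w)
  have hint : ∀ (z : ℤ), (∀ y, χ y ^ z = 1) → (m : ℤ) ∣ z := by
    intro z hz
    have h2 : ∀ y, χ y ^ z.natAbs = 1 := by
      intro y
      have h3 := hz y
      rcases Int.natAbs_eq z with h4 | h4
      · rw [h4, zpow_natCast] at h3; exact h3
      · rw [h4, _root_.zpow_neg, inv_eq_one, zpow_natCast] at h3; exact h3
    exact Int.natCast_dvd.2 (hdvd _ h2)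
  have hbR : ∀ x, bq A (R x) = bq A x := by
    intro x
    rw [hRw, bq_rep hp cs hcert.2.2.1 hAc, hg]
  have hsub : {a | _root_.Cfsg.Agent.Tits.Roots.IsRoot cs hp.isCartan a ∧ 0 ≤ a ∧ χ a = 1} ⊆ Hn hp cs 1 := by
    intro a ha
    have := RGD.ht_pos ha.1 ha.2.1
    exact ⟨ha.1, ha.2.1, by omega⟩
  refine ⟨m, j, h1, hmp, hj J (hJ u' (RGD.Sup_mono hsub hu')), ?_, ?_⟩
  · obtain ⟨S, hS, h2, h3⟩ := Lat.semi hχ hR hM' hRM
    exact ⟨S, hS, h2, hint _ h3⟩
  · intro hj0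
    -- a root is killed
    have hne : ∃ a, _root_.Cfsg.Agent.Tits.Roots.IsRoot cs hp.isCartan a ∧ 0 ≤ a ∧ χ a = 1 := by
      by_contra hcon
      push Not at hcon
      have h2 : {a | _root_.Cfsg.Agent.Tits.Roots.IsRoot cs hp.isCartan a ∧ 0 ≤ a ∧ χ a = 1} = (∅ : Set (Fin l → ℤ)) := by
        rw [Set.eq_empty_iff_forall_notMem]
        rintro a ⟨h3, h4, h5⟩
        exact hcon a h3 h4 h5
      rw [h2] at hu'
      have h3 : RGD.Sup (XX D l k) (∅ : Set (Fin l → ℤ)) ≤ ⊥ :=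
        RGD.Sup_le fun a ha => absurd ha (Set.notMem_empty a)
      have h4 : u' = 1 := Subgroup.mem_bot.1 (h3 hu')
      have := hj 0 (by rw [h4, one_pow])
      omega
    obtain ⟨a, ha, -, hχa⟩ := hne
    obtain ⟨r, hr, rfl⟩ := (isRoot_iff hp cs a).1 ha
    have ha0 : _root_.Cfsg.Agent.Nodes.RGDChev.vec D l r ≠ 0 := ha.ne_zero
    have hpos := pos_of_cert hcert
    have hA : (Matrix.of A).IsSymm := Matrix.IsSymm.ext fun i j => hcert.2.2.1 j i
    have hNa : 0 ≤ bq A (_root_.Cfsg.Agent.Nodes.RGDChev.vec D l r) := by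
      have h2 := hpos (fun i => (vec D l r i : ℝ)) (fun h => ha0 (_root_.funext fun i => by
        have h6 : (vec D l r i : ℝ) = 0 := congrFun h i
        rw [Pi.zero_apply]
        exact_mod_cast h6))
      have h3 : ((bq A (_root_.Cfsg.Agent.Nodes.RGDChev.vec D l r) : ℤ) : ℝ) = (fun i => (vec D l r i : ℝ)) ⬝ᵥ
          ((Matrix.of A).map (Int.cast : ℤ → ℝ)) *ᵥ (fun i => (vec D l r i : ℝ)) := by
        simp only [bq, dotProduct, Matrix.mulVec, Matrix.map_apply, Int.cast_sum, Int.cast_mul]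
      rw [← h3] at h2
      exact_mod_cast h2.le
    obtain ⟨Na, hNa'⟩ := Int.eq_ofNat_of_zero_le hNa
    obtain ⟨w₁, i₁, hwi⟩ := ha
    obtain ⟨d, n, hd, hn, hnN, hn1, S, hS, h2, h3⟩ := Lat.levi hχ hR hM' hRM (Matrix.of A) hA hpos hbR ha0 hχa hNa'
      ((LinearMap.proj i₁ : (Fin l → ℤ) →ₗ[ℤ] ℤ) ∘ₗ rep cs hp.isCartan w₁⁻¹) (by
        rw [LinearMap.comp_apply, hwi, rep_inv_apply]
        exact sr_self i₁)
    refine ⟨d, n, hd, hn, hnN.trans (Nat.pow_le_pow_left ?_ d), hn1, S, hS, h2, hint _ h3⟩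
    have h4 := hN r hr
    rw [hNa'] at h4
    exact_mod_cast h4

end

end Cfsg.Agent.H482.TwoCyc.Eng
end

-- part: H482/TwoCyc/Forms
section
/-!
# The forms of the exceptional types (helper482)
-/

set_option autoImplicit false
set_option linter.unusedSectionVars false
set_option maxRecDepth 100000

namespace Cfsg.Agent.H482.TwoCyc.Forms

open Cfsg Cfsg.Lie Cfsg.Agent.ChevalleyStructure.CoxeterGeomTypes Cfsg.Agent.Nodes.RGDChev Cfsg.Agent.H482.TwoCyc.Eng

/-! ### G2 -/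

def AG2 : Fin 2 → Fin 2 → ℤ := ![![2, -3], ![-3, 6]]

def PG2 : Fin 2 → Fin 2 → ℤ := ![![2, -3], ![0, 1]]

def QG2 : Fin 2 → Fin 2 → ℤ := ![![1, 3], ![0, 2]]

def cG2 : Fin 2 → ℤ := ![1, 3]

theorem cert_G2 : Cert AG2 PG2 QG2 cG2 2 2 := by decide +kernel

theorem cart_G2 : ∀ i j, 2 * AG2 i j = AG2 i i * cartanOf chevG2 2 i j := by decide +kernel

theorem len_G2 : ∀ r : Fin (chevG2).nroots, (∑ i, ∑ j, vec chevG2 2 r i * AG2 i j * vec chevG2 2 r j) ≤ 6 ∧
    (∑ i, vec chevG2 2 r i) ≤ 5 := by decide +kernel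

/-! ### F4 -/

def AF4 : Fin 4 → Fin 4 → ℤ := ![![2, -1, 0, 0], ![-1, 2, -2, 0], ![0, -2, 4, -2], ![0, 0, -2, 4]]

def PF4 : Fin 4 → Fin 4 → ℤ := ![![2, -1, 0, 0], ![0, 3, -4, 0], ![0, 0, 2, -3], ![0, 0, 0, 1]]

def QF4 : Fin 4 → Fin 4 → ℤ := ![![3, 1, 2, 6], ![0, 2, 4, 12], ![0, 0, 3, 9], ![0, 0, 0, 6]]

def cF4 : Fin 4 → ℤ := ![3, 1, 2, 6]

theorem cert_F4 : Cert AF4 PF4 QF4 cF4 6 6 := by decide +kernel

theorem cart_F4 : ∀ i j, 2 * AF4 i j = AF4 i i * cartanOf chevF4 4 i j := by decide +kernel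

theorem len_F4 : ∀ r : Fin (chevF4).nroots, (∑ i, ∑ j, vec chevF4 4 r i * AF4 i j * vec chevF4 4 r j) ≤ 4 ∧
    (∑ i, vec chevF4 4 r i) ≤ 11 := by decide +kernel

/-! ### E6 -/

def AE6 : Fin 6 → Fin 6 → ℤ := ![![2, 0, -1, 0, 0, 0], ![0, 2, 0, -1, 0, 0], ![-1, 0, 2, -1, 0, 0], ![0, -1, -1, 2, -1, 0], ![0, 0, 0, -1, 2, -1], ![0, 0, 0, 0, -1, 2]]

def PE6 : Fin 6 → Fin 6 → ℤ := ![![2, 0, -1, 0, 0, 0], ![0, 2, 0, -1, 0, 0], ![0, 0, 3, -2, 0, 0], ![0, 0, 0, 5, -6, 0], ![0, 0, 0, 0, 4, -5], ![0, 0, 0, 0, 0, 1]]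

def QE6 : Fin 6 → Fin 6 → ℤ := ![![30, 0, 10, 4, 6, 30], ![0, 30, 0, 6, 9, 45], ![0, 0, 20, 8, 12, 60], ![0, 0, 0, 12, 18, 90], ![0, 0, 0, 0, 15, 75], ![0, 0, 0, 0, 0, 60]]

def cE6 : Fin 6 → ℤ := ![30, 30, 10, 2, 3, 45]

theorem cert_E6 : Cert AE6 PE6 QE6 cE6 60 60 := by decide +kernel

theorem cart_E6 : ∀ i j, 2 * AE6 i j = AE6 i i * cartanOf chevE6 6 i j := by decide +kernel

private noncomputable def _root_.Cfsg.Agent.LsF.f8aef4c_0 : {f // @Cfsg.Agent.ChevalleyStructure.RootVecTab.dig = f} := ⟨_, by first | (delta Cfsg.Agent.ChevalleyStructure.RootVecTab.dig; rewrite [Cfsg.Agent.LsF.nmul_pat]; exact rfl) | exact rfl⟩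
private noncomputable def _root_.Cfsg.Agent.LsF.f8aef4c_1 : {f // @Cfsg.Agent.ChevalleyStructure.RootVecTab.packTab = f} := ⟨_, by first | (delta Cfsg.Agent.ChevalleyStructure.RootVecTab.packTab; rewrite [Cfsg.Agent.LsF.instDecEq_eq, Cfsg.Agent.LsF.ite_eq]; exact rfl) | exact rfl⟩
private noncomputable def _root_.Cfsg.Agent.LsF.f8aef4c_2 : {f // @Cfsg.Agent.ChevalleyStructure.RootVecTab.code = f} := ⟨_, by first | (delta Cfsg.Agent.ChevalleyStructure.RootVecTab.code; rewrite [Cfsg.Agent.LsF.f8aef4c_1.2, Cfsg.Agent.LsF.nmul_pat, Cfsg.Agent.LsF.npow_pat]; exact rfl) | exact rfl⟩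
private noncomputable def _root_.Cfsg.Agent.LsF.f8aef4c_3 : {f // @Cfsg.Agent.ChevalleyStructure.RootVec.rt = f} := ⟨_, by first | (delta Cfsg.Agent.ChevalleyStructure.RootVec.rt; rewrite [Cfsg.Agent.LsF.f8aef4c_0.2, Cfsg.Agent.LsF.f8aef4c_2.2, Cfsg.Agent.LsF.nsub_pat, Cfsg.Agent.LsF.isub_pat, Cfsg.Agent.LsF.icast_pat, Cfsg.Agent.LsF.decLt_eq, Cfsg.Agent.LsF.dAnd_eq, Cfsg.Agent.LsF.ite_eq]; exact rfl) | exact rfl⟩
private noncomputable def _root_.Cfsg.Agent.LsF.f8aef4c_4 : {f // @Cfsg.Agent.Nodes.RGDChev.vec = f} := ⟨_, by first | (delta Cfsg.Agent.Nodes.RGDChev.vec; rewrite [Cfsg.Agent.LsF.f8aef4c_3.2]; exact rfl) | exact rfl⟩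
private noncomputable def _root_.Cfsg.Agent.LsF.f8aef4c_5 : {f // @Cfsg.Agent.H482.TwoCyc.Forms.AE6 = f} := ⟨_, by first | (delta Cfsg.Agent.H482.TwoCyc.Forms.AE6; rewrite [Cfsg.Agent.LsF.ineg_pat, Cfsg.Agent.LsF.vecCons_eq]; exact rfl) | exact rfl⟩
theorem len_E6 : ∀ r : Fin (chevE6).nroots, (∑ i, ∑ j, vec chevE6 6 r i * AE6 i j * vec chevE6 6 r j) ≤ 2 ∧
    (∑ i, vec chevE6 6 r i) ≤ 11 := by (refine of_decide_eq_true ?_; (try (rewrite [Cfsg.Agent.LsF.sumF_pat, Cfsg.Agent.LsF.f8aef4c_4.2, Cfsg.Agent.LsF.f8aef4c_5.2, Cfsg.Agent.LsF.iadd_pat, Cfsg.Agent.LsF.imul_pat, Cfsg.Agent.LsF.iACM_eq, Cfsg.Agent.LsF.idecLe_eq, Cfsg.Agent.LsF.dAnd_eq, Cfsg.Agent.LsF.dForallFin_eq, Cfsg.Agent.LsF.decide_eq])); decide +kernel)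

/-! ### E7 -/

def AE7 : Fin 7 → Fin 7 → ℤ := ![![2, 0, -1, 0, 0, 0, 0], ![0, 2, 0, -1, 0, 0, 0], ![-1, 0, 2, -1, 0, 0, 0], ![0, -1, -1, 2, -1, 0, 0], ![0, 0, 0, -1, 2, -1, 0], ![0, 0, 0, 0, -1, 2, -1], ![0, 0, 0, 0, 0, -1, 2]]

def PE7 : Fin 7 → Fin 7 → ℤ := ![![2, 0, -1, 0, 0, 0, 0], ![0, 2, 0, -1, 0, 0, 0], ![0, 0, 3, -2, 0, 0, 0], ![0, 0, 0, 5, -6, 0, 0], ![0, 0, 0, 0, 4, -5, 0], ![0, 0, 0, 0, 0, 3, -4], ![0, 0, 0, 0, 0, 0, 1]]

def QE7 : Fin 7 → Fin 7 → ℤ := ![![30, 0, 10, 4, 6, 10, 40], ![0, 30, 0, 6, 9, 15, 60], ![0, 0, 20, 8, 12, 20, 80], ![0, 0, 0, 12, 18, 30, 120], ![0, 0, 0, 0, 15, 25, 100], ![0, 0, 0, 0, 0, 20, 80], ![0, 0, 0, 0, 0, 0, 60]]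

def cE7 : Fin 7 → ℤ := ![30, 30, 10, 2, 3, 5, 40]

theorem cert_E7 : Cert AE7 PE7 QE7 cE7 60 60 := by decide +kernel

private noncomputable def _root_.Cfsg.Agent.LsF.f8aef4c_6 : {f // @Cfsg.Agent.H482.TwoCyc.Forms.AE7 = f} := ⟨_, by first | (delta Cfsg.Agent.H482.TwoCyc.Forms.AE7; rewrite [Cfsg.Agent.LsF.ineg_pat, Cfsg.Agent.LsF.vecCons_eq]; exact rfl) | exact rfl⟩
private noncomputable def _root_.Cfsg.Agent.LsF.f8aef4c_7 : {f // @Cfsg.Lie.ChevalleyDatum.cartan = f} := ⟨_, by first | (delta Cfsg.Lie.ChevalleyDatum.cartan; rewrite [Cfsg.Agent.LsF.agetD_eq]; exact rfl) | exact rfl⟩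
private noncomputable def _root_.Cfsg.Agent.LsF.f8aef4c_8 : {f // @Cfsg.Lie.ChevalleyDatum.simple = f} := ⟨_, by first | (delta Cfsg.Lie.ChevalleyDatum.simple; rewrite [Cfsg.Agent.LsF.agetD_eq]; exact rfl) | exact rfl⟩
private noncomputable def _root_.Cfsg.Agent.LsF.f8aef4c_9 : {f // @Cfsg.Agent.ChevalleyStructure.CoxeterGeomTypes.cartanOf = f} := ⟨_, by first | (delta Cfsg.Agent.ChevalleyStructure.CoxeterGeomTypes.cartanOf; rewrite [Cfsg.Agent.LsF.f8aef4c_7.2, Cfsg.Agent.LsF.f8aef4c_8.2]; exact rfl) | exact rfl⟩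
theorem cart_E7 : ∀ i j, 2 * AE7 i j = AE7 i i * cartanOf chevE7 7 i j := by (refine of_decide_eq_true ?_; (try (rewrite [Cfsg.Agent.LsF.f8aef4c_6.2, Cfsg.Agent.LsF.f8aef4c_9.2, Cfsg.Agent.LsF.imul_pat, Cfsg.Agent.LsF.instIDecEq_eq, Cfsg.Agent.LsF.dForallFin_eq, Cfsg.Agent.LsF.decide_eq])); decide +kernel)

theorem len_E7 : ∀ r : Fin (chevE7).nroots, (∑ i, ∑ j, vec chevE7 7 r i * AE7 i j * vec chevE7 7 r j) ≤ 2 ∧
    (∑ i, vec chevE7 7 r i) ≤ 17 := by (refine of_decide_eq_true ?_; (try (rewrite [Cfsg.Agent.LsF.sumF_pat, Cfsg.Agent.LsF.f8aef4c_4.2, Cfsg.Agent.LsF.f8aef4c_6.2, Cfsg.Agent.LsF.iadd_pat, Cfsg.Agent.LsF.imul_pat, Cfsg.Agent.LsF.iACM_eq, Cfsg.Agent.LsF.idecLe_eq, Cfsg.Agent.LsF.dAnd_eq, Cfsg.Agent.LsF.dForallFin_eq, Cfsg.Agent.LsF.decide_eq])); decide +kernel)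

/-! ### E8 -/

def AE8 : Fin 8 → Fin 8 → ℤ := ![![2, 0, -1, 0, 0, 0, 0, 0], ![0, 2, 0, -1, 0, 0, 0, 0], ![-1, 0, 2, -1, 0, 0, 0, 0], ![0, -1, -1, 2, -1, 0, 0, 0], ![0, 0, 0, -1, 2, -1, 0, 0], ![0, 0, 0, 0, -1, 2, -1, 0], ![0, 0, 0, 0, 0, -1, 2, -1], ![0, 0, 0, 0, 0, 0, -1, 2]]

def PE8 : Fin 8 → Fin 8 → ℤ := ![![2, 0, -1, 0, 0, 0, 0, 0], ![0, 2, 0, -1, 0, 0, 0, 0], ![0, 0, 3, -2, 0, 0, 0, 0], ![0, 0, 0, 5, -6, 0, 0, 0], ![0, 0, 0, 0, 4, -5, 0, 0], ![0, 0, 0, 0, 0, 3, -4, 0], ![0, 0, 0, 0, 0, 0, 2, -3], ![0, 0, 0, 0, 0, 0, 0, 1]]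

def QE8 : Fin 8 → Fin 8 → ℤ := ![![30, 0, 10, 4, 6, 10, 20, 60], ![0, 30, 0, 6, 9, 15, 30, 90], ![0, 0, 20, 8, 12, 20, 40, 120], ![0, 0, 0, 12, 18, 30, 60, 180], ![0, 0, 0, 0, 15, 25, 50, 150], ![0, 0, 0, 0, 0, 20, 40, 120], ![0, 0, 0, 0, 0, 0, 30, 90], ![0, 0, 0, 0, 0, 0, 0, 60]]

def cE8 : Fin 8 → ℤ := ![30, 30, 10, 2, 3, 5, 10, 30]

theorem cert_E8 : Cert AE8 PE8 QE8 cE8 60 60 := by decide +kernel

private noncomputable def _root_.Cfsg.Agent.LsF.f8aef4c_10 : {f // @Cfsg.Agent.H482.TwoCyc.Forms.AE8 = f} := ⟨_, by first | (delta Cfsg.Agent.H482.TwoCyc.Forms.AE8; rewrite [Cfsg.Agent.LsF.ineg_pat, Cfsg.Agent.LsF.vecCons_eq]; exact rfl) | exact rfl⟩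
theorem cart_E8 : ∀ i j, 2 * AE8 i j = AE8 i i * cartanOf chevE8 8 i j := by (refine of_decide_eq_true ?_; (try (rewrite [Cfsg.Agent.LsF.f8aef4c_10.2, Cfsg.Agent.LsF.f8aef4c_9.2, Cfsg.Agent.LsF.imul_pat, Cfsg.Agent.LsF.instIDecEq_eq, Cfsg.Agent.LsF.dForallFin_eq, Cfsg.Agent.LsF.decide_eq])); decide +kernel)

theorem len_E8 : ∀ r : Fin (chevE8).nroots, (∑ i, ∑ j, vec chevE8 8 r i * AE8 i j * vec chevE8 8 r j) ≤ 2 ∧
    (∑ i, vec chevE8 8 r i) ≤ 29 := by (refine of_decide_eq_true ?_; (try (rewrite [Cfsg.Agent.LsF.sumF_pat, Cfsg.Agent.LsF.f8aef4c_4.2, Cfsg.Agent.LsF.f8aef4c_10.2, Cfsg.Agent.LsF.iadd_pat, Cfsg.Agent.LsF.imul_pat, Cfsg.Agent.LsF.iACM_eq, Cfsg.Agent.LsF.idecLe_eq, Cfsg.Agent.LsF.dAnd_eq, Cfsg.Agent.LsF.dForallFin_eq, Cfsg.Agent.LsF.decide_eq])); decide +kernel)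

end Cfsg.Agent.H482.TwoCyc.Forms
end

-- part: H482/TwoCyc/Untw
section
/-!
# Element orders of the exceptional groups (helper482)

`Ords q l N J2 J3 x` : `orderOf x = m p^j`, `q = p ^ e`, `m` prime to `p`, `j ≤ J2` if `p = 2`, `j ≤ J3` else;
`m ∣ ∏_{n ∈ S} Φ_n(q)`, `S` a finite set, `∑_{n ∈ S} φ(n) ≤ l`; and if `j ≠ 0` then
`m ∣ c ∏_{n ∈ S} Φ_n(q)`, `∑_{n ∈ S} φ(n) + d ≤ l`, `1 ≤ d`, `c ^ 2 ≤ N ^ d`, `c = 1` if `d = 1`.

* `ords_G2` (`l = 2`, `N = 6`, exponents `p^3` (`p = 2`), `p^2` (`p` odd)),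
  `ords_F4` (`l = 4`, `N = 4`, `2^4`, `p^3`), `ords_E6` (`l = 6`, `N = 2`, `2^4`, `p^3`),
  `ords_E7` (`l = 7`, `N = 2`, `2^5`, `p^3`), `ords_E8` (`l = 8`, `N = 2`, `2^5`, `p^4`),
  `ords_2E6` (`l = 6`, `N = 2`, `2^4`, `p^3`);
* `Ords.le` : `orderOf x ≤ (q + 1) ^ l * p ^ J`.
-/

set_option autoImplicit false
set_option linter.unusedSectionVars false

namespace Cfsg.Agent.H482.TwoCyc.Untw

open CoxeterSystem Cfsg Cfsg.Lie Cfsg.Lie.ChevalleyDatum
open Cfsg.Agent.ChevalleyStructure Cfsg.Agent.ChevalleyStructure.Elts Cfsg.Agent.ChevalleyStructure.CoxeterGeom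
  Cfsg.Agent.ChevalleyStructure.CoxeterGeomTypes Cfsg.Agent.ChevalleyStructure.NPerm
open Cfsg.Agent.Tits.Roots Cfsg.Agent.Tits.Core Cfsg.Agent.Nodes Cfsg.Agent.Nodes.Reps Cfsg.Agent.Nodes.BNOf
  Cfsg.Agent.Nodes.RGDChev Cfsg.Agent.Nodes.Bruhat
open Cfsg.Agent.KFacts.RgdField Cfsg.Agent.KFacts.RgdChevCoord
open Cfsg.Agent.BpExc Cfsg.Agent.BpExc.TorCent Cfsg.Agent.BpExc.TorChev Cfsg.Agent.BpExc.Tow
  Cfsg.Agent.BpExc.TowChev Cfsg.Agent.BpExc.Fr Cfsg.Agent.BpExc.NInst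
open Cfsg.Agent.H129.TorusChar Cfsg.Agent.BpExc.LangFr
open Cfsg.Agent.GpExc.Field (glMap emb coe_emb glMap_xG emb_injective coe_glMap)
open Cfsg.Agent.H482.TwoCyc.Pair Cfsg.Agent.H482.TwoCyc.Eng Cfsg.Agent.H482.TwoCyc.Forms
open Polynomial

universe u v

/-- the description of the order of an element -/
def Ords {G : Type*} [Group G] (q l N J2 J3 : ℕ) (x : G) : Prop :=
  ∃ p e m j : ℕ, p.Prime ∧ 0 < e ∧ q = p ^ e ∧ orderOf x = m * p ^ j ∧ 0 < m ∧ m.Coprime p ∧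
    (p = 2 → j ≤ J2) ∧ (p ≠ 2 → j ≤ J3) ∧
    (∃ S : Finset ℕ, (∀ n ∈ S, 0 < n) ∧ ∑ n ∈ S, Nat.totient n ≤ l ∧
      (m : ℤ) ∣ (∏ n ∈ S, cyclotomic n ℤ).eval (q : ℤ)) ∧
    (j ≠ 0 → ∃ d c : ℕ, 1 ≤ d ∧ 0 < c ∧ c ^ 2 ≤ N ^ d ∧ (d = 1 → c = 1) ∧
      ∃ S : Finset ℕ, (∀ n ∈ S, 0 < n) ∧ ∑ n ∈ S, Nat.totient n + d ≤ l ∧
        (m : ℤ) ∣ c * (∏ n ∈ S, cyclotomic n ℤ).eval (q : ℤ))

/-- the exponent of `U` -/
theorem exp_U {D : ChevalleyDatum} {l : ℕ} {M : CoxeterMatrix (Fin l)} (hp : IsType D l M) {k : Type u} [Field k]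
    {W : Type v} [Group W] (cs : CoxeterSystem M W) (hk : LocFin k) (p : ℕ) [Fact p.Prime] [CharP k p]
    {H : ℤ} (hH : ∀ r : Fin D.nroots, ∑ i, vec D l r i ≤ H) {J2 J3 : ℕ} (h2 : H < 2 ^ J2) (h3 : H < 3 ^ J3)
    {x : ↥(D.group k)} (hx : x ∈ RGD.Sup (XX D l k) (Hn hp cs 1)) : x ^ p ^ (if p = 2 then J2 else J3) = 1 := by
  have hht : ∀ a, _root_.Cfsg.Agent.Tits.Roots.IsRoot cs hp.isCartan a → Tits.Roots.ht a ≤ H := by
    intro a ha
    obtain ⟨r, hr, rfl⟩ := (isRoot_iff hp cs a).1 ha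
    exact hH ⟨r, hr⟩
  by_cases hp2 : p = 2
  · rw [if_pos hp2]
    exact U_dbl hp cs hk p hht h2 hx
  · rw [if_neg hp2]
    exact U_tri hp cs hk p ((Fact.out : p.Prime).odd_of_ne_two hp2) hht h3 hx

/-- the engine in terms of `Ords` -/
theorem ords_of {D : ChevalleyDatum} {l : ℕ} {M : CoxeterMatrix (Fin l)} (hp : IsType D l M) {k : Type u} [Field k]
    {W : Type v} [Group W] (cs : CoxeterSystem M W) [IsAlgClosed k] [Finite W] {p e : ℕ} [Fact p.Prime] [CharP k p]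
    {σ : MulAut ↥(D.group k)} {g : (Fin l → ℤ) ≃+ (Fin l → ℤ)} (he : 0 < e)
    (hk : LocFin k) (hka : BpExc.TorAll.HAlg p k) (hσ : IsFrob p e σ)
    (F : Fr cs hp.isCartan (TT D k) (XX D l k) σ g) {A P Q : Fin l → Fin l → ℤ} {c : Fin l → ℤ} {K κ : ℤ}
    (hcert : Cert A P Q c K κ) (hAc : ∀ i j, 2 * A i j = A i i * cartanOf D l i j) (hg : ∀ x, bq A (g x) = bq A x)
    {N : ℕ} {H : ℤ} (hlen : ∀ r : Fin D.nroots, (∑ i, ∑ j, vec D l r i * A i j * vec D l r j) ≤ N ∧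
      (∑ i, vec D l r i) ≤ H) {J2 J3 : ℕ} (h2 : H < 2 ^ J2) (h3 : H < 3 ^ J3)
    {G : Type*} [Group G] (f : G →* ↥(D.group k)) (hf : Function.Injective f) (x : G) (hx : σ (f x) = f x)
    (hx0 : 0 < orderOf x) : Ords (p ^ e) l N J2 J3 x := by
  obtain ⟨m, j, h4, h5, h6, h7, h8⟩ := engine hp cs hk hka hσ F hcert hAc hg (N := N)
    (fun r hr => by rw [bq_eq]; exact (hlen ⟨r, hr⟩).1) (J := if p = 2 then J2 else J3)
    (fun u hu => exp_U hp cs hk p (fun r => (hlen r).2) h2 h3 hu) f hf x hx hx0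
  refine ⟨p, e, m, j, Fact.out, he, rfl, h4, ?_, h5, fun h => by rwa [if_pos h] at h6,
    fun h => by rwa [if_neg h] at h6, h7, h8⟩
  rcases Nat.eq_zero_or_pos m with rfl | h
  · rw [h4, zero_mul] at hx0; omega
  · exact h

/-- the untwisted groups -/
theorem untw {D : ChevalleyDatum} {l : ℕ} {M : CoxeterMatrix (Fin l)} (hp : IsType D l M)
    {A P Q : Fin l → Fin l → ℤ} {c : Fin l → ℤ} {K κ : ℤ}
    (hcert : Cert A P Q c K κ) (hAc : ∀ i j, 2 * A i j = A i i * cartanOf D l i j)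
    {N : ℕ} {H : ℤ} (hlen : ∀ r : Fin D.nroots, (∑ i, ∑ j, vec D l r i * A i j * vec D l r j) ≤ N ∧
      (∑ i, vec D l r i) ≤ H) {J2 J3 : ℕ} (h2 : H < 2 ^ J2) (h3 : H < 3 ^ J3)
    {F : Type u} [Field F] [Finite F] (x : ↥(D.group F)) : Ords (Nat.card F) l N J2 J3 x := by
  have := Fintype.ofFinite F
  have : Finite (GL D.Idx F) := inferInstance
  obtain ⟨k, _, _, f, p, _, _, e, hk, hka, he, hn⟩ := H378.TorFin.exists_closure F
  have hfin := finite_W hp M.toCoxeterSystem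
  rw [hn]
  refine ords_of hp M.toCoxeterSystem he hk hka H129.TorusUntw.isFrob_phi (H129.TorusUntw.fr_phi hp M.toCoxeterSystem)
    hcert hAc (fun _ => rfl) hlen h2 h3 (emb hp.inList f) (emb_injective hp.inList f) x ?_ (orderOf_pos x)
  exact H129.TorusUntw.phi_emb hp f (by rw [← Nat.card_eq_fintype_card, hn]) x

variable {F : Type u} [Field F] [Finite F]

theorem ords_G2 (x : ↥(chevG2.group F)) : Ords (Nat.card F) 2 6 3 2 x :=
  untw RowsUntw.g2T cert_G2 cart_G2 len_G2 (by norm_num) (by norm_num) x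

theorem ords_F4 (x : ↥(chevF4.group F)) : Ords (Nat.card F) 4 4 4 3 x :=
  untw RowsUntw.f4T cert_F4 cart_F4 len_F4 (by norm_num) (by norm_num) x

theorem ords_E6 (x : ↥(chevE6.group F)) : Ords (Nat.card F) 6 2 4 3 x :=
  untw RowsUntw.e6T cert_E6 cart_E6 len_E6 (by norm_num) (by norm_num) x

theorem ords_E7 (x : ↥(chevE7.group F)) : Ords (Nat.card F) 7 2 5 3 x :=
  untw RowsUntw.e7T cert_E7 cart_E7 len_E7 (by norm_num) (by norm_num) x

theorem ords_E8 (x : ↥(chevE8.group F)) : Ords (Nat.card F) 8 2 5 4 x :=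
  untw RowsUntw.e8T cert_E8 cart_E8 len_E8 (by norm_num) (by norm_num) x

/-! ### twisted groups of type `E₆` -/

theorem bq_flip (x : Fin 6 → ℤ) : bq AE6 (H129.TwE6Fr.flip6 x) = bq AE6 x := by
  rw [bq_eq, bq_eq, H129.TwE6Fr.flip6_apply]
  simp only [Fin.sum_univ_succ, AE6, _root_.Nat.succ_eq_add_one, _root_.Nat.reduceAdd, _root_.Fin.isValue, _root_.Int.reduceNeg, _root_.Matrix.cons_val', _root_.Matrix.cons_val_fin_one, _root_.Matrix.cons_val_zero, _root_.Matrix.cons_val_succ, _root_.Finset.univ_unique, _root_.Fin.default_eq_zero, _root_.Finset.sum_const, _root_.Finset.card_singleton, _root_.Int.nsmul_eq_mul, _root_.Nat.cast_one, _root_.one_mul, _root_.MulZeroClass.mul_zero, _root_.MulZeroClass.zero_mul, _root_.mul_neg, _root_.mul_one, _root_.neg_mul, _root_.add_zero, _root_.zero_add, _root_.Fin.succ_zero_eq_one, _root_.Fin.succ_one_eq_two, _root_.Fin.reduceSucc, _root_.Finset.sum_singleton]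
  ring

theorem ords_2E6 {K : Type u} [Field K] [Fintype K] {q : ℕ} (hq : IsPrimePow q) (hK : Fintype.card K = q ^ 2)
    (x : ↥(twistedE6 K q)) : Ords q 6 2 4 3 x := by
  have : Finite (GL chevE6.Idx K) := inferInstance
  obtain ⟨k, _, _, f, p, _, _, n, hk, hka, hn0, hn⟩ := H378.TorFin.exists_closure K
  obtain ⟨p', e, hp', he, hqe'⟩ := id hq
  have hpF : Fact p.Prime := inferInstance
  have hpp : p' = p := by
    have h1 : p' ∣ p ^ n := by
      rw [← hn, Nat.card_eq_fintype_card, hK, ← hqe']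
      exact dvd_pow (dvd_pow_self p' he.ne') (by norm_num)
    exact (Nat.prime_dvd_prime_iff_eq hp'.nat_prime hpF.out).1 (hp'.nat_prime.dvd_of_dvd_pow h1)
  subst hpp
  have hfin := finite_W RGDTwE6.hp CoxeterMatrix.E₆.toCoxeterSystem
  have h1 := ords_of RGDTwE6.hp CoxeterMatrix.E₆.toCoxeterSystem he hk hka (H129.TwE6Fr.isFrob_tau (p := p') (e := e))
    (H129.TwE6Fr.fr_tau CoxeterMatrix.E₆.toCoxeterSystem) cert_E6 cart_E6 bq_flip (N := 2) (J2 := 4) (J3 := 3) len_E6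
    (by norm_num) (by norm_num) (H129.TwE6Fr.embT f hq hK) (H129.TwE6Fr.embT_injective f hq hK) x
    (H129.TwE6Fr.tau_embT f hqe'.symm hq hK x) (orderOf_pos x)
  rwa [hqe'] at h1

/-! ### numerical consequences -/

theorem card_pos_eval (q : ℕ) (hq : 2 ≤ q) {m : ℕ} {S : Finset ℕ} {c : ℕ} (hc : 0 < c)
    (h : (m : ℤ) ∣ c * (∏ n ∈ S, cyclotomic n ℤ).eval (q : ℤ)) :
    m ≤ c * (q + 1) ^ ∑ n ∈ S, Nat.totient n := by
  have h1 := Poly.eval_pos q hq S
  have h2 := Poly.eval_le q hq S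
  have h3 := Int.le_of_dvd (mul_pos (by exact_mod_cast hc) h1) h
  have h4 : (m : ℤ) ≤ ((c * (q + 1) ^ ∑ n ∈ S, Nat.totient n : ℕ) : ℤ) := by
    push_cast
    exact h3.trans (mul_le_mul_of_nonneg_left h2 (by positivity))
  exact_mod_cast h4

/-- the crude bound -/
theorem Ords.le {G : Type*} [Group G] {q l N J2 J3 : ℕ} {x : G} (h : Ords q l N J2 J3 x) :
    ∃ p e : ℕ, p.Prime ∧ 0 < e ∧ q = p ^ e ∧ orderOf x ≤ (q + 1) ^ l * p ^ (if p = 2 then J2 else J3) := by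
  obtain ⟨p, e, m, j, hp, he, hq, ho, hm, hmp, h2, h3, ⟨S, hS, hSl, hmS⟩, -⟩ := h
  have hq2 : 2 ≤ q := by rw [hq]; exact hp.two_le.trans (Nat.le_self_pow he.ne' p)
  refine ⟨p, e, hp, he, hq, ?_⟩
  rw [ho]
  refine Nat.mul_le_mul ?_ (Nat.pow_le_pow_right hp.pos ?_)
  · have h4 := card_pos_eval q hq2 (c := 1) one_pos (m := m) (S := S) (by rwa [Nat.cast_one, one_mul])
    rw [one_mul] at h4
    exact h4.trans (Nat.pow_le_pow_right (by omega) hSl)
  · split_ifs with h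
    · exact h2 h
    · exact h3 h

/-- the bound with the Levi part: `B` bounds the semisimple orders, `C` those of the elements commuting with a unipotent
one -/
theorem Ords.le_max {G : Type*} [Group G] {q l N J2 J3 : ℕ} {x : G} (h : Ords q l N J2 J3 x) {B C : ℕ}
    (hB : ∀ S : Finset ℕ, (∀ n ∈ S, 0 < n) → ∑ n ∈ S, Nat.totient n ≤ l →
      (∏ n ∈ S, cyclotomic n ℤ).eval (q : ℤ) ≤ B)
    (hC : ∀ (S : Finset ℕ) (d c : ℕ), (∀ n ∈ S, 0 < n) → 1 ≤ d → 0 < c → c ^ 2 ≤ N ^ d → (d = 1 → c = 1) →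
      ∑ n ∈ S, Nat.totient n + d ≤ l → c * (∏ n ∈ S, cyclotomic n ℤ).eval (q : ℤ) ≤ C) :
    ∃ p e : ℕ, p.Prime ∧ 0 < e ∧ q = p ^ e ∧
      (orderOf x ≤ B ∨ orderOf x ≤ C * p ^ (if p = 2 then J2 else J3)) := by
  obtain ⟨p, e, m, j, hp, he, hq, ho, hm, hmp, h2, h3, ⟨S, hS, hSl, hmS⟩, h4⟩ := h
  have hq2 : 2 ≤ q := by rw [hq]; exact hp.two_le.trans (Nat.le_self_pow he.ne' p)
  refine ⟨p, e, hp, he, hq, ?_⟩
  rw [ho]
  by_cases hj : j = 0
  · left
    rw [hj, pow_zero, mul_one]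
    have h5 := Int.le_of_dvd (Poly.eval_pos q hq2 S) hmS
    exact_mod_cast h5.trans (hB S hS hSl)
  · right
    obtain ⟨d, c, hd, hc, hcN, hd1, S', hS', hSd, hm'⟩ := h4 hj
    have h5 := Int.le_of_dvd (mul_pos (by exact_mod_cast hc) (Poly.eval_pos q hq2 S')) hm'
    have h6 : m ≤ C := by exact_mod_cast h5.trans (hC S' d c hS' hd hc hcN hd1 hSd)
    refine Nat.mul_le_mul h6 (Nat.pow_le_pow_right hp.pos ?_)
    split_ifs with h
    · exact h2 h
    · exact h3 h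

end Cfsg.Agent.H482.TwoCyc.Untw
end

private theorem dce_8214b8c2d6d1 : _root_.True := by
  try have : _root_.True := by simp only [_root_.Cfsg.Agent.H482.TwoCyc.Eng.bq.eq_1]
  try have : _root_.True := by simp only [_root_.Cfsg.Agent.H482.TwoCyc.Lat.cst.eq_1]
  try have : _root_.True := by simp only [_root_.Cfsg.Agent.Tits.Roots.ht.eq_1]
  try have : _root_.True := by simp only [_root_.Cfsg.Agent.H482.TwoCyc.Forms.AE6.eq_1]
  try have : _root_.True := by simp only [_root_.Cfsg.Agent.H482.TwoCyc.Lat.RQ.eq_1]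
  exact _root_.True.intro
end

-- part: H482/TwoCyc/Num
section
prune_inst 0x21204400748002000000001222202024640001b00020000070c00c46090d836008c029000680140a024cb281180100000000007040000000000034000002002088aad604b33c4f0c8e009f80328f395c00001100000000000000000000000004000000000
set_option linter.all false
open scoped Cfsg.Agent.FastGrp

/-!
# Products of values of cyclotomic polynomials (helper482)

* `tab q` : the `n` with `φ(n) ≤ 6`, with `φ(n)` and `Φ_n(q)`; `knap` : the maximal product;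
* `cyc_le` : `∏_{n ∈ S} Φ_n(q) ≤ B` for all `S` with `∑ φ(n) ≤ b ≤ 6` if `knap (tab q) b ≤ B` (decidable for numerals).
-/

set_option autoImplicit false
set_option linter.unusedSectionVars false

namespace Cfsg.Agent.H482.TwoCyc.Num

open Polynomial

/-- `(n, φ(n), Φ_n(q))` for `φ(n) ≤ 6` -/
def tab (q : ℕ) : List (ℕ × ℕ × ℕ) :=
  [(1, 1, q - 1), (2, 1, q + 1), (3, 2, q ^ 2 + q + 1), (4, 2, q ^ 2 + 1), (6, 2, q ^ 2 - q + 1),
    (5, 4, q ^ 4 + q ^ 3 + q ^ 2 + q + 1), (8, 4, q ^ 4 + 1), (10, 4, q ^ 4 - q ^ 3 + q ^ 2 - q + 1),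
    (12, 4, q ^ 4 - q ^ 2 + 1), (7, 6, q ^ 6 + q ^ 5 + q ^ 4 + q ^ 3 + q ^ 2 + q + 1), (9, 6, q ^ 6 + q ^ 3 + 1),
    (14, 6, q ^ 6 - q ^ 5 + q ^ 4 - q ^ 3 + q ^ 2 - q + 1), (18, 6, q ^ 6 - q ^ 3 + 1)]

/-- the maximal product of values, of total weight at most the budget -/
def knap : List (ℕ × ℕ × ℕ) → ℕ → ℕ
  | [], _ => 1
  | (_, w, v) :: L, b => if w ≤ b then max (knap L b) (v * knap L (b - w)) else knap L b

theorem le_knap (w v : ℕ → ℕ) : ∀ (L : List (ℕ × ℕ × ℕ)), (∀ t ∈ L, w t.1 = t.2.1 ∧ v t.1 = t.2.2) →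
    (L.map Prod.fst).Nodup → ∀ (S : Finset ℕ) (b : ℕ), (∀ n ∈ S, n ∈ L.map Prod.fst) → ∑ n ∈ S, w n ≤ b →
      ∏ n ∈ S, v n ≤ knap L b := by
  intro L
  induction L with
  | nil =>
    intro _ _ S b hS _
    have : S = ∅ := by
      rw [Finset.eq_empty_iff_forall_notMem]
      intro n hn
      simpa using hS n hn
    rw [this]
    simp [knap]
  | cons t L ih =>
    intro hL hnd S b hS hb
    obtain ⟨n₀, w₀, v₀⟩ := t
    have hL' := fun t ht => hL t (List.mem_cons_of_mem _ ht)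
    obtain ⟨hw, hv⟩ := hL (n₀, w₀, v₀) (by simp)
    rw [List.map_cons, List.nodup_cons] at hnd
    have hw' : w n₀ = w₀ := hw
    have hv' : v n₀ = v₀ := hv
    by_cases hn : n₀ ∈ S
    · have h1 : ∑ n ∈ S, w n = w n₀ + ∑ n ∈ S.erase n₀, w n := (Finset.add_sum_erase S w hn).symm
      have h2 : ∏ n ∈ S, v n = v n₀ * ∏ n ∈ S.erase n₀, v n := (Finset.mul_prod_erase S v hn).symm
      rw [h1, hw'] at hb
      have h3 := ih hL' hnd.2 (S.erase n₀) (b - w₀) (by
        intro n hn'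
        have h4 := hS n (Finset.mem_of_mem_erase hn')
        rw [List.map_cons, List.mem_cons] at h4
        rcases h4 with h4 | h4
        · exact absurd h4 (Finset.ne_of_mem_erase hn')
        · exact h4) (by omega)
      rw [h2, hv', knap, if_pos (by omega)]
      exact le_max_of_le_right (Nat.mul_le_mul_left _ h3)
    · have h3 := ih hL' hnd.2 S b (by
        intro n hn'
        have h4 := hS n hn'
        rw [List.map_cons, List.mem_cons] at h4
        rcases h4 with h4 | h4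
        · exact absurd (show n₀ ∈ S by rw [← show n = n₀ from h4]; exact hn') hn
        · exact h4) hb
      rw [knap]
      split_ifs
      · exact le_max_of_le_left h3
      · exact h3

/-- the `n` with `φ(n) ≤ 6` -/
theorem mem_tab {n : ℕ} (hn : 0 < n) (h : Nat.totient n ≤ 6) :
    n ∈ ([1, 2, 3, 4, 6, 5, 8, 10, 12, 7, 9, 14, 18] : List ℕ) := by
  have hd : n ∣ 2520 := by
    rw [Nat.dvd_iff_prime_pow_dvd_dvd]
    intro p k hp hk
    rcases Nat.eq_zero_or_pos k with rfl | hk0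
    · rw [pow_zero]; exact one_dvd _
    have h1 := Nat.totient_dvd_of_dvd hk
    have h2 := (Nat.le_of_dvd (Nat.totient_pos.2 hn) h1).trans h
    rw [Nat.totient_prime_pow hp hk0] at h2
    have hp2 := hp.two_le
    have h3 : 1 ≤ p ^ (k - 1) := Nat.one_le_pow _ _ hp.pos
    have hp7 : p ≤ 7 := by nlinarith only [h2, h3, Nat.sub_add_cancel hp.one_le]
    have h4 : p ^ (k - 1) ≤ 6 := by nlinarith only [h2, hp2, Nat.sub_add_cancel hp.one_le]
    have hk3 : k - 1 < 3 := by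
      by_contra hcon
      have h5 : 2 ^ 3 ≤ 2 ^ (k - 1) := Nat.pow_le_pow_right (by norm_num) (by omega)
      have h6 : 2 ^ (k - 1) ≤ p ^ (k - 1) := Nat.pow_le_pow_left hp2 _
      omega
    obtain ⟨k', rfl⟩ : ∃ k', k = k' + 1 := ⟨k - 1, by omega⟩
    rw [Nat.add_sub_cancel] at h2 h4 hk3
    interval_cases p <;> interval_cases k' <;> (clear * - h2; omega)
  have h1 : n ∈ Nat.divisors 2520 := Nat.mem_divisors.2 ⟨hd, by norm_num⟩
  have h2 : ∀ n ∈ Nat.divisors 2520, Nat.totient n ≤ 6 →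
      n ∈ ([1, 2, 3, 4, 6, 5, 8, 10, 12, 7, 9, 14, 18] : List ℕ) := by (rewrite [Cfsg.Agent.Lib.DivFast.divisors_eq, Cfsg.Agent.Lib.DivFast.totient_eq]; decide +kernel)
  exact h2 n h1 h

/-! ### the values -/

theorem prod_eval (q : ℤ) {n : ℕ} (hn : 0 < n) {L : Finset ℕ} (hL : n.divisors = L) :
    ∏ i ∈ L, (cyclotomic i ℤ).eval q = q ^ n - 1 := by
  have h1 := congrArg (Polynomial.eval q) (prod_cyclotomic_eq_X_pow_sub_one hn ℤ)
  rw [eval_prod, hL] at h1
  rw [h1]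
  simp

section Val

variable (q : ℕ) (hq : 2 ≤ q)

theorem v1 : (cyclotomic 1 ℤ).eval (q : ℤ) = q - 1 := by simp

theorem v2 : (cyclotomic 2 ℤ).eval (q : ℤ) = q + 1 := by simp [cyclotomic_two]

include hq

theorem pos (n : ℕ) : (0 : ℤ) < (cyclotomic n ℤ).eval (q : ℤ) := cyclotomic_pos' n (by exact_mod_cast hq)

theorem v3 : (cyclotomic 3 ℤ).eval (q : ℤ) = q ^ 2 + q + 1 := by
  have h := prod_eval (q : ℤ) (n := 3) (L := {1, 3}) (by norm_num) (by decide)
  rw [Finset.prod_pair (by norm_num), v1] at h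
  have h1 : ((q : ℤ) - 1) ≠ 0 := by have : (2 : ℤ) ≤ q := by exact_mod_cast hq
                                    omega
  apply mul_left_cancel₀ h1
  rw [h]; ring

theorem v4 : (cyclotomic 4 ℤ).eval (q : ℤ) = q ^ 2 + 1 := by
  have h := prod_eval (q : ℤ) (n := 4) (L := {1, 2, 4}) (by norm_num) (by decide)
  rw [Finset.prod_insert (by decide), Finset.prod_pair (by norm_num), v1, v2] at h
  have h2 : (2 : ℤ) ≤ q := by exact_mod_cast hq
  have h1 : ((q : ℤ) - 1) * (q + 1) ≠ 0 := mul_ne_zero (by omega) (by omega)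
  apply mul_left_cancel₀ h1
  rw [mul_assoc, h]; ring

theorem v5 : (cyclotomic 5 ℤ).eval (q : ℤ) = q ^ 4 + q ^ 3 + q ^ 2 + q + 1 := by
  have h := prod_eval (q : ℤ) (n := 5) (L := {1, 5}) (by norm_num) (by decide)
  rw [Finset.prod_pair (by norm_num), v1] at h
  have h2 : (2 : ℤ) ≤ q := by exact_mod_cast hq
  apply mul_left_cancel₀ (show ((q : ℤ) - 1) ≠ 0 by omega)
  rw [h]; ring

theorem v6 : (cyclotomic 6 ℤ).eval (q : ℤ) = q ^ 2 - q + 1 := by
  have h := prod_eval (q : ℤ) (n := 6) (L := {1, 2, 3, 6}) (by norm_num) (by decide)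
  rw [Finset.prod_insert (by decide), Finset.prod_insert (by decide), Finset.prod_pair (by norm_num), v1, v2,
    v3 q hq] at h
  have h2 : (2 : ℤ) ≤ q := by exact_mod_cast hq
  have h1 : ((q : ℤ) - 1) * ((q + 1) * (q ^ 2 + q + 1)) ≠ 0 :=
    mul_ne_zero (by omega) (mul_ne_zero (by omega) (by positivity))
  apply mul_left_cancel₀ h1
  linear_combination h

theorem v7 : (cyclotomic 7 ℤ).eval (q : ℤ) = q ^ 6 + q ^ 5 + q ^ 4 + q ^ 3 + q ^ 2 + q + 1 := by
  have h := prod_eval (q : ℤ) (n := 7) (L := {1, 7}) (by norm_num) (by decide)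
  rw [Finset.prod_pair (by norm_num), v1] at h
  have h2 : (2 : ℤ) ≤ q := by exact_mod_cast hq
  apply mul_left_cancel₀ (show ((q : ℤ) - 1) ≠ 0 by omega)
  rw [h]; ring

theorem v8 : (cyclotomic 8 ℤ).eval (q : ℤ) = q ^ 4 + 1 := by
  have h := prod_eval (q : ℤ) (n := 8) (L := {1, 2, 4, 8}) (by norm_num) (by decide)
  rw [Finset.prod_insert (by decide), Finset.prod_insert (by decide), Finset.prod_pair (by norm_num), v1, v2,
    v4 q hq] at h
  have h2 : (2 : ℤ) ≤ q := by exact_mod_cast hq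
  have h1 : ((q : ℤ) - 1) * ((q + 1) * (q ^ 2 + 1)) ≠ 0 :=
    mul_ne_zero (by omega) (mul_ne_zero (by omega) (by positivity))
  apply mul_left_cancel₀ h1
  linear_combination h

theorem v9 : (cyclotomic 9 ℤ).eval (q : ℤ) = q ^ 6 + q ^ 3 + 1 := by
  have h := prod_eval (q : ℤ) (n := 9) (L := {1, 3, 9}) (by norm_num) (by decide)
  rw [Finset.prod_insert (by decide), Finset.prod_pair (by norm_num), v1, v3 q hq] at h
  have h2 : (2 : ℤ) ≤ q := by exact_mod_cast hq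
  have h1 : ((q : ℤ) - 1) * (q ^ 2 + q + 1) ≠ 0 := mul_ne_zero (by omega) (by positivity)
  apply mul_left_cancel₀ h1
  linear_combination h

theorem v10 : (cyclotomic 10 ℤ).eval (q : ℤ) = q ^ 4 - q ^ 3 + q ^ 2 - q + 1 := by
  have h := prod_eval (q : ℤ) (n := 10) (L := {1, 2, 5, 10}) (by norm_num) (by decide)
  rw [Finset.prod_insert (by decide), Finset.prod_insert (by decide), Finset.prod_pair (by norm_num), v1, v2,
    v5 q hq] at h
  have h2 : (2 : ℤ) ≤ q := by exact_mod_cast hq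
  have h1 : ((q : ℤ) - 1) * ((q + 1) * (q ^ 4 + q ^ 3 + q ^ 2 + q + 1)) ≠ 0 :=
    mul_ne_zero (by omega) (mul_ne_zero (by omega) (by positivity))
  apply mul_left_cancel₀ h1
  linear_combination h

theorem v12 : (cyclotomic 12 ℤ).eval (q : ℤ) = q ^ 4 - q ^ 2 + 1 := by
  have h := prod_eval (q : ℤ) (n := 12) (L := {1, 2, 3, 4, 6, 12}) (by norm_num) (by decide)
  rw [Finset.prod_insert (by decide), Finset.prod_insert (by decide), Finset.prod_insert (by decide),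
    Finset.prod_insert (by decide), Finset.prod_pair (by norm_num), v1, v2, v3 q hq, v4 q hq, v6 q hq] at h
  have h2 : (2 : ℤ) ≤ q := by exact_mod_cast hq
  have h3 : (0 : ℤ) < (q : ℤ) ^ 2 - q + 1 := by nlinarith only []
  have h1 : ((q : ℤ) - 1) * ((q + 1) * ((q ^ 2 + q + 1) * ((q ^ 2 + 1) * (q ^ 2 - q + 1)))) ≠ 0 :=
    mul_ne_zero (by omega) (mul_ne_zero (by omega) (mul_ne_zero (by positivity) (mul_ne_zero (by positivity) h3.ne')))
  apply mul_left_cancel₀ h1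
  linear_combination h

theorem v14 : (cyclotomic 14 ℤ).eval (q : ℤ) = q ^ 6 - q ^ 5 + q ^ 4 - q ^ 3 + q ^ 2 - q + 1 := by
  have h := prod_eval (q : ℤ) (n := 14) (L := {1, 2, 7, 14}) (by norm_num) (by decide)
  rw [Finset.prod_insert (by decide), Finset.prod_insert (by decide), Finset.prod_pair (by norm_num), v1, v2,
    v7 q hq] at h
  have h2 : (2 : ℤ) ≤ q := by exact_mod_cast hq
  have h1 : ((q : ℤ) - 1) * ((q + 1) * (q ^ 6 + q ^ 5 + q ^ 4 + q ^ 3 + q ^ 2 + q + 1)) ≠ 0 :=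
    mul_ne_zero (by omega) (mul_ne_zero (by omega) (by positivity))
  apply mul_left_cancel₀ h1
  linear_combination h

theorem v18 : (cyclotomic 18 ℤ).eval (q : ℤ) = q ^ 6 - q ^ 3 + 1 := by
  have h := prod_eval (q : ℤ) (n := 18) (L := {1, 2, 3, 6, 9, 18}) (by norm_num) (by decide)
  rw [Finset.prod_insert (by decide), Finset.prod_insert (by decide), Finset.prod_insert (by decide),
    Finset.prod_insert (by decide), Finset.prod_pair (by norm_num), v1, v2, v3 q hq, v6 q hq, v9 q hq] at h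
  have h2 : (2 : ℤ) ≤ q := by exact_mod_cast hq
  have h3 : (0 : ℤ) < (q : ℤ) ^ 2 - q + 1 := by nlinarith only []
  have h1 : ((q : ℤ) - 1) * ((q + 1) * ((q ^ 2 + q + 1) * ((q ^ 2 - q + 1) * (q ^ 6 + q ^ 3 + 1)))) ≠ 0 :=
    mul_ne_zero (by omega) (mul_ne_zero (by omega) (mul_ne_zero (by positivity) (mul_ne_zero h3.ne' (by positivity))))
  apply mul_left_cancel₀ h1
  linear_combination h

/-- the table is correct -/
theorem tab_spec : ∀ t ∈ tab q, Nat.totient t.1 = t.2.1 ∧ ((cyclotomic t.1 ℤ).eval (q : ℤ)).toNat = t.2.2 := by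
  have h1 : 1 ≤ q := by omega
  have e2 : q ≤ q ^ 2 := by nlinarith only []
  have e3 : q ^ 2 ≤ q ^ 3 := Nat.pow_le_pow_right h1 (by norm_num)
  have e4 : q ^ 3 ≤ q ^ 4 := Nat.pow_le_pow_right h1 (by norm_num)
  have e5 : q ^ 4 ≤ q ^ 5 := Nat.pow_le_pow_right h1 (by norm_num)
  have e6 : q ^ 5 ≤ q ^ 6 := Nat.pow_le_pow_right h1 (by norm_num)
  have key : ∀ (a : ℤ) (b : ℕ), a = b → a.toNat = b := fun a b h => by rw [h]; exact Int.toNat_natCast b
  intro t ht
  simp only [tab, List.mem_cons, List.not_mem_nil, or_false] at ht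
  rcases ht with rfl | rfl | rfl | rfl | rfl | rfl | rfl | rfl | rfl | rfl | rfl | rfl | rfl
  · exact ⟨(by decide : Nat.totient 1 = 1), key _ _ (by rw [v1]; push_cast [Nat.cast_sub h1]; ring)⟩
  · exact ⟨(by decide : Nat.totient 2 = 1), key _ _ (by rw [v2]; push_cast; ring)⟩
  · exact ⟨(by decide : Nat.totient 3 = 2), key _ _ (by rw [v3 q hq]; push_cast; ring)⟩
  · exact ⟨(by decide : Nat.totient 4 = 2), key _ _ (by rw [v4 q hq]; push_cast; ring)⟩
  · exact ⟨(by decide : Nat.totient 6 = 2), key _ _ (by rw [v6 q hq]; push_cast [Nat.cast_sub e2]; ring)⟩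
  · exact ⟨(by decide : Nat.totient 5 = 4), key _ _ (by rw [v5 q hq]; push_cast; ring)⟩
  · exact ⟨(by decide : Nat.totient 8 = 4), key _ _ (by rw [v8 q hq]; push_cast; ring)⟩
  · refine ⟨(by decide : Nat.totient 10 = 4), key _ _ ?_⟩
    rw [v10 q hq, Nat.cast_add, Nat.cast_sub (by omega), Nat.cast_add, Nat.cast_sub (by omega)]
    push_cast; ring
  · refine ⟨(by decide : Nat.totient 12 = 4), key _ _ ?_⟩
    rw [v12 q hq, Nat.cast_add, Nat.cast_sub (by omega)]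
    push_cast; ring
  · exact ⟨(by decide : Nat.totient 7 = 6), key _ _ (by rw [v7 q hq]; push_cast; ring)⟩
  · exact ⟨(by decide : Nat.totient 9 = 6), key _ _ (by rw [v9 q hq]; push_cast; ring)⟩
  · refine ⟨(by decide : Nat.totient 14 = 6), key _ _ ?_⟩
    rw [v14 q hq, Nat.cast_add, Nat.cast_sub (by omega), Nat.cast_add, Nat.cast_sub (by omega), Nat.cast_add,
      Nat.cast_sub (by omega)]
    push_cast; ring
  · refine ⟨(by decide : Nat.totient 18 = 6), key _ _ ?_⟩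
    rw [v18 q hq, Nat.cast_add, Nat.cast_sub (by omega)]
    push_cast; ring

/-- **The bound.** -/
theorem cyc_le {b B : ℕ} (hb : b ≤ 6) (hB : knap (tab q) b ≤ B) (S : Finset ℕ) (hS : ∀ n ∈ S, 0 < n)
    (h : ∑ n ∈ S, Nat.totient n ≤ b) : (∏ n ∈ S, cyclotomic n ℤ).eval (q : ℤ) ≤ B := by
  have h1 := le_knap Nat.totient (fun n => ((cyclotomic n ℤ).eval (q : ℤ)).toNat) (tab q) (tab_spec q hq) (by
    show ([1, 2, 3, 4, 6, 5, 8, 10, 12, 7, 9, 14, 18] : List ℕ).Nodup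
    decide) S b (by
    intro n hn
    show n ∈ ([1, 2, 3, 4, 6, 5, 8, 10, 12, 7, 9, 14, 18] : List ℕ)
    exact mem_tab (hS n hn) (((Finset.single_le_sum (fun _ _ => Nat.zero_le _) hn).trans h).trans hb)) h
  have h2 : ((∏ n ∈ S, ((cyclotomic n ℤ).eval (q : ℤ)).toNat : ℕ) : ℤ) = (∏ n ∈ S, cyclotomic n ℤ).eval (q : ℤ) := by
    rw [eval_prod]
    push_cast
    exact Finset.prod_congr rfl fun n _ => Int.toNat_of_nonneg (pos q hq n).le
  rw [← h2]
  exact_mod_cast h1.trans hB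

end Val

theorem knap_two : knap (tab 2) 6 = 217 ∧ knap (tab 2) 5 = 105 ∧ knap (tab 2) 4 = 35 ∧ knap (tab 2) 3 = 21 ∧
    knap (tab 2) 2 = 7 ∧ knap (tab 2) 1 = 3 ∧ knap (tab 2) 0 = 1 := by decide +kernel

end Cfsg.Agent.H482.TwoCyc.Num

private theorem dce_19347564100a : _root_.True := by
  try have : _root_.True := by simp only [_root_.Cfsg.Agent.H482.TwoCyc.Num.knap.eq_def]
  try have : _root_.True := by simp only [_root_.Cfsg.Agent.H482.TwoCyc.Num.tab.eq_1]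
  try have : _root_.True := by simp only [_root_.Cfsg.Agent.H482.TwoCyc.Num.knap.eq_2]
  try have : _root_.True := by simp only [_root_.Cfsg.Agent.H482.TwoCyc.Num.knap.eq_1]
  exact _root_.True.intro
end
end
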